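import Cfsg.Agent.Lib.JordanType.Basic

/-!
Unipotent matrices and their Jordan types.
-/

set_option autoImplicit false

namespace Cfsg.Agent.Lib.JordanType

open Module

universe u v w

variable {F : Type u} [Field F] {V : Type v} [AddCommGroup V] [Module F V]

/-- Coordinates transported along an equivalence. -/
def Coords.map {V' : Type*} [AddCommGroup V'] [Module F V'] {N : Module.End F V} {κ : Type w} {d : κ → ℕ}
    (C : Coords N d) (e : V ≃ₗ[F] V') {N' : Module.End F V'} (h : ∀ x, e (N x) = N' (e x)) : Coords N' d where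
  E := e.symm.trans C.E
  zero' y k hk := by
    obtain ⟨x, rfl⟩ := e.surjective y
    rw [← h, LinearEquiv.trans_apply, e.symm_apply_apply]
    exact C.zero' x k hk
  succ' y k i hk := by
    obtain ⟨x, rfl⟩ := e.surjective y
    rw [← h, LinearEquiv.trans_apply, e.symm_apply_apply, LinearEquiv.trans_apply, e.symm_apply_apply]
    exact C.succ' x k i hk

theorem Coords.sum_eq_finrank [FiniteDimensional F V] {N : Module.End F V} {κ : Type w} [Fintype κ] {d : κ → ℕ}
    (C : Coords N d) : ∑ k, d k = finrank F V := by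
  rw [C.E.finrank_eq, finrank_pi, Fintype.card_sigma]
  exact Finset.sum_congr rfl fun k _ => (Fintype.card_fin _).symm

theorem count_eq_of_coords [FiniteDimensional F V] {N : Module.End F V} {κ κ' : Type*} [Fintype κ] [Fintype κ']
    {d : κ → ℕ} {d' : κ' → ℕ} (C : Coords N d) (C' : Coords N d') {j : ℕ} (hj : 1 ≤ j) :
    (Finset.univ.filter fun k => d k = j).card = (Finset.univ.filter fun k => d' k = j).card :=
  count_eq (fun i => (C.finrank_ker_pow i).symm.trans (C'.finrank_ker_pow i)) hj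

theorem exists_conj_of_count {V' : Type*} [AddCommGroup V'] [Module F V'] {N : Module.End F V} {N' : Module.End F V'}
    {κ κ' : Type*} [Fintype κ] [Fintype κ'] {d : κ → ℕ} {d' : κ' → ℕ} (C : Coords N d) (C' : Coords N' d')
    (hd : ∀ k, 1 ≤ d k) (hd' : ∀ k, 1 ≤ d' k)
    (h : ∀ j, 1 ≤ j → (Finset.univ.filter fun k => d k = j).card = (Finset.univ.filter fun k => d' k = j).card) :
    ∃ e : V ≃ₗ[F] V', ∀ x, e (N x) = N' (e x) := by
  obtain ⟨σ, hσ⟩ := exists_equiv_index (d := d) (d' := d') fun j => by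
    rcases Nat.eq_zero_or_pos j with rfl | hj
    · rw [Finset.filter_eq_empty_iff.2 fun k _ => (Nat.one_le_iff_ne_zero.1 (hd k)),
        Finset.filter_eq_empty_iff.2 fun k _ => (Nat.one_le_iff_ne_zero.1 (hd' k)), Finset.card_empty, Finset.card_empty]
    · exact h j hj
  exact exists_conj (C.reindex σ hσ) C'

variable {ι ι' : Type*} [Fintype ι] [DecidableEq ι] [Fintype ι'] [DecidableEq ι']

theorem reindex_intertwine (e : ι ≃ ι') (M : Matrix ι ι F) (x : ι → F) :
    LinearEquiv.funCongrLeft F F e.symm (Matrix.toLin' M x) =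
      Matrix.toLin' (Matrix.reindex e e M) (LinearEquiv.funCongrLeft F F e.symm x) := by
  funext i
  show Matrix.mulVec M x (e.symm i) = Matrix.mulVec (M.submatrix e.symm e.symm) (x ∘ e.symm) i
  rw [Matrix.submatrix_mulVec_equiv, Function.comp_apply, Function.comp_assoc, Equiv.self_comp_symm]
  rfl

/-- The standard coordinates of a reindexed Jordan matrix. -/
noncomputable def reindexCoords {t : ℕ} (d : Fin t → ℕ) (e : ((k : Fin t) × Fin (d k)) ≃ ι) :
    Coords (Matrix.toLin' (Matrix.reindex e e (Cfsg.jordanTypeMatrix d F) - 1)) d :=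
  (stdCoords d).map (LinearEquiv.funCongrLeft F F e.symm) fun x => by
    rw [reindex_intertwine]
    congr 2
    simp [Matrix.reindex_apply, Matrix.submatrix_sub, Matrix.submatrix_one_equiv]

theorem isNilpotent_reindex_sub_one {t : ℕ} (d : Fin t → ℕ) (e : ((k : Fin t) × Fin (d k)) ≃ ι) :
    IsNilpotent (Matrix.reindex e e (Cfsg.jordanTypeMatrix d F) - 1) := by
  refine ⟨∑ k, d k, Matrix.toLin'.injective ?_⟩
  rw [Matrix.toLin'_pow, map_zero]
  exact (reindexCoords d e).pow_eq_zero_iff.2 fun k => Finset.single_le_sum (fun i _ => Nat.zero_le (d i)) (Finset.mem_univ k)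

theorem isConj_of_intertwine {A B : Matrix ι ι F} (e : (ι → F) ≃ₗ[F] (ι → F))
    (h : ∀ x, e (Matrix.toLin' (A - 1) x) = Matrix.toLin' (B - 1) (e x)) : IsConj A B := by
  refine ⟨⟨LinearMap.toMatrix' e.toLinearMap, LinearMap.toMatrix' e.symm.toLinearMap,
    by rw [← LinearMap.toMatrix'_comp]; simp, by rw [← LinearMap.toMatrix'_comp]; simp⟩, ?_⟩
  show LinearMap.toMatrix' e.toLinearMap * A = B * LinearMap.toMatrix' e.toLinearMap
  refine Matrix.ext_iff_mulVec.2 fun x => ?_
  rw [← Matrix.mulVec_mulVec, ← Matrix.mulVec_mulVec, LinearMap.toMatrix'_mulVec, LinearMap.toMatrix'_mulVec]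
  have h1 := h x
  rw [Matrix.toLin'_apply, Matrix.toLin'_apply, Matrix.sub_mulVec, Matrix.sub_mulVec, Matrix.one_mulVec,
    Matrix.one_mulVec, map_sub, sub_left_inj] at h1
  exact h1

theorem intertwine_of_isConj {A B : Matrix ι ι F} (h : IsConj A B) :
    ∃ e : (ι → F) ≃ₗ[F] (ι → F), ∀ x, e (Matrix.toLin' (A - 1) x) = Matrix.toLin' (B - 1) (e x) := by
  obtain ⟨c, hc⟩ := h
  refine ⟨LinearEquiv.ofLinear (Matrix.toLin' (c : Matrix ι ι F)) (Matrix.toLin' ((c⁻¹ : (Matrix ι ι F)ˣ) : Matrix ι ι F))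
    (by rw [← Matrix.toLin'_mul, c.mul_inv, Matrix.toLin'_one])
    (by rw [← Matrix.toLin'_mul, c.inv_mul, Matrix.toLin'_one]), fun x => ?_⟩
  show Matrix.toLin' _ (Matrix.toLin' _ x) = Matrix.toLin' _ (Matrix.toLin' _ x)
  rw [← LinearMap.comp_apply, ← Matrix.toLin'_mul, ← LinearMap.comp_apply, ← Matrix.toLin'_mul,
    mul_sub, mul_one, sub_mul, one_mul, hc.eq]

/-- Every unipotent matrix is similar to a Jordan matrix. -/
theorem exists_jordanType (A : Matrix ι ι F) (hA : IsNilpotent (A - 1)) :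
    ∃ (t : ℕ) (d : Fin t → ℕ) (e : ((k : Fin t) × Fin (d k)) ≃ ι), (∀ k, 1 ≤ d k) ∧
      Nonempty (Coords (Matrix.toLin' (A - 1)) d) ∧ IsConj (Matrix.reindex e e (Cfsg.jordanTypeMatrix d F)) A := by
  obtain ⟨m, hm⟩ := hA
  obtain ⟨t, d, hd, ⟨C⟩⟩ := exists_coords (Matrix.toLin' (A - 1)) ⟨m, by rw [← Matrix.toLin'_pow, hm, map_zero]⟩
  have hcard : Fintype.card ((k : Fin t) × Fin (d k)) = Fintype.card ι := by
    rw [Fintype.card_sigma, ← Module.finrank_fintype_fun_eq_card (R := F) (η := ι), ← C.sum_eq_finrank]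
    exact Finset.sum_congr rfl fun k _ => Fintype.card_fin _
  let e := Fintype.equivOfCardEq hcard
  obtain ⟨f, hf⟩ := exists_conj (reindexCoords d e) C
  exact ⟨t, d, e, hd, ⟨C⟩, isConj_of_intertwine f hf⟩

end Cfsg.Agent.Lib.JordanType
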