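import Cfsg.Prelude.Def_JordanBlocks

/-!
Jordan types of nilpotent endomorphisms: coordinates in which the map is a block shift, kernels of powers,
uniqueness of the type and the matrix form.
-/

set_option autoImplicit false

namespace Cfsg.Agent.Lib.JordanType

open Module Polynomial

universe u v w

variable {F : Type u} [Field F] {V : Type v} [AddCommGroup V] [Module F V]

/-- The shift on block functions. -/
def extend {κ : Type w} {d : κ → ℕ} (c : ((k : κ) × Fin (d k)) → F) (k : κ) (i : ℕ) : F :=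
  if h : i < d k then c ⟨k, ⟨i, h⟩⟩ else 0

/-- Coordinates in which `N` shifts each block one step. -/
structure Coords (N : Module.End F V) {κ : Type w} (d : κ → ℕ) where
  E : V ≃ₗ[F] ((k : κ) × Fin (d k) → F)
  zero' : ∀ x k (h : 0 < d k), E (N x) ⟨k, ⟨0, h⟩⟩ = 0
  succ' : ∀ x k i (h : i + 1 < d k), E (N x) ⟨k, ⟨i + 1, h⟩⟩ = E x ⟨k, ⟨i, by omega⟩⟩

variable {N : Module.End F V} {κ : Type w} {d : κ → ℕ} (C : Coords N d)

/-- The `i`-th coordinate in block `k`, zero outside the block. -/
noncomputable def Coords.co (k : κ) (i : ℕ) : V →ₗ[F] F where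
  toFun x := if h : i < d k then C.E x ⟨k, ⟨i, h⟩⟩ else 0
  map_add' x y := by split <;> simp
  map_smul' a x := by split <;> simp

theorem Coords.co_of_lt {k : κ} {i : ℕ} (h : i < d k) (x : V) : C.co k i x = C.E x ⟨k, ⟨i, h⟩⟩ := dif_pos h

theorem Coords.co_of_ge {k : κ} {i : ℕ} (h : d k ≤ i) (x : V) : C.co k i x = 0 := dif_neg (by omega)

theorem Coords.ext {x y : V} (h : ∀ k i, i < d k → C.co k i x = C.co k i y) : x = y :=
  C.E.injective (funext fun ⟨k, i⟩ => by
    have := h k i.1 i.2
    rwa [C.co_of_lt i.2, C.co_of_lt i.2] at this)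

/-- The vector with prescribed coordinates. -/
noncomputable def Coords.vec (c : κ → ℕ → F) : V := C.E.symm fun p => c p.1 p.2

theorem Coords.co_vec (c : κ → ℕ → F) {k : κ} {i : ℕ} (h : i < d k) : C.co k i (C.vec c) = c k i := by
  rw [C.co_of_lt h, Coords.vec, LinearEquiv.apply_symm_apply]

theorem Coords.co_vec_full (c : κ → ℕ → F) (k : κ) (i : ℕ) :
    C.co k i (C.vec c) = if i < d k then c k i else 0 := by
  by_cases h : i < d k
  · rw [if_pos h, C.co_vec c h]
  · rw [if_neg h, C.co_of_ge (by omega)]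

theorem Coords.co_pow (x : V) : ∀ (j : ℕ) (k : κ) (i : ℕ),
    C.co k i ((N ^ j) x) = if j ≤ i ∧ i < d k then C.co k (i - j) x else 0 := by
  intro j
  induction j with
  | zero =>
    intro k i
    by_cases h : i < d k
    · simp [h]
    · simp [h, C.co_of_ge (show d k ≤ i by omega)]
  | succ j ih =>
    intro k i
    by_cases h : i < d k
    · rw [pow_succ', Module.End.mul_apply, C.co_of_lt h]
      rcases i with _ | i
      · rw [C.zero', if_neg (by omega)]
      · rw [C.succ', ← C.co_of_lt (show i < d k by omega), ih k i]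
        by_cases hj : j ≤ i
        · rw [if_pos ⟨hj, by omega⟩, if_pos ⟨by omega, h⟩, Nat.add_sub_add_right]
        · rw [if_neg (by omega), if_neg (by omega)]
    · rw [C.co_of_ge (by omega), if_neg (by omega)]

theorem Coords.mem_ker_pow {x : V} {j : ℕ} :
    x ∈ LinearMap.ker (N ^ j) ↔ ∀ k i, i + j < d k → C.co k i x = 0 := by
  rw [LinearMap.mem_ker]
  constructor
  · intro h k i hi
    have h1 := C.co_pow x j k (i + j)
    rw [if_pos ⟨by omega, hi⟩, h, map_zero, Nat.add_sub_cancel] at h1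
    exact h1.symm
  · intro h
    refine C.ext fun k i hi => ?_
    rw [C.co_pow, map_zero]
    split
    · exact h k (i - j) (by omega)
    · rfl

theorem Coords.pow_eq_zero_iff (C : Coords N d) {j : ℕ} : N ^ j = 0 ↔ ∀ k, d k ≤ j := by
  constructor
  · intro h k
    by_contra hk
    have h1 : C.vec (fun _ _ => (1 : F)) ∈ LinearMap.ker (N ^ j) := by rw [h]; simp
    have h2 := C.mem_ker_pow.1 h1 k 0 (by omega)
    rw [C.co_vec _ (by omega)] at h2
    exact one_ne_zero h2
  · intro h
    refine LinearMap.ext fun x => ?_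
    exact LinearMap.mem_ker.1 (C.mem_ker_pow.2 fun k i hi => absurd (h k) (by omega))

theorem card_fin_sub (n j : ℕ) : Fintype.card {i : Fin n // n ≤ i + j} = min n j := by
  let e : {i : Fin n // n ≤ i + j} ≃ Fin (min n j) :=
    { toFun := fun i => ⟨n - 1 - i.1, by have := i.1.2; have := i.2; omega⟩
      invFun := fun i => ⟨⟨n - 1 - i, by have := i.2; omega⟩, by have := i.2; show n ≤ n - 1 - i + j; omega⟩
      left_inv := fun i => by
        have := i.1.2; have := i.2; apply Subtype.ext; apply Fin.ext; show n - 1 - (n - 1 - i.1.1) = i.1.1; omega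
      right_inv := fun i => by have := i.2; apply Fin.ext; show n - 1 - (n - 1 - i.1) = i.1; omega }
  rw [Fintype.card_congr e, Fintype.card_fin]

theorem sum_min_succ {ι : Type*} [Fintype ι] (e : ι → ℕ) (j : ℕ) : ∑ k, min (e k) (j + 1) =
    ∑ k, min (e k) j + (Finset.univ.filter fun k => j < e k).card := by
  rw [Finset.card_filter, ← Finset.sum_add_distrib]
  refine Finset.sum_congr rfl fun k _ => ?_
  split <;> omega

theorem card_ge_split {ι : Type*} [Fintype ι] (e : ι → ℕ) {j : ℕ} (hj : 1 ≤ j) :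
    (Finset.univ.filter fun k => j - 1 < e k).card =
      (Finset.univ.filter fun k => e k = j).card + (Finset.univ.filter fun k => j < e k).card := by
  classical
  rw [← Finset.card_union_of_disjoint (Finset.disjoint_filter.2 fun k _ h1 h2 => by omega)]
  congr 1
  ext k
  simp only [Finset.mem_filter, Finset.mem_univ, true_and, Finset.mem_union]
  omega

theorem Coords.finrank_ker_pow [Fintype κ] (C : Coords N d) (j : ℕ) :
    finrank F (LinearMap.ker (N ^ j)) = ∑ k, min (d k) j := by
  classical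
  let f : LinearMap.ker (N ^ j) →ₗ[F] ((k : κ) × {i : Fin (d k) // d k ≤ i + j} → F) :=
    LinearMap.pi fun p => (C.co p.1 p.2.1).comp (LinearMap.ker (N ^ j)).subtype
  have hinj : Function.Injective f := by
    intro x y h
    refine Subtype.ext (C.ext fun k i hi => ?_)
    by_cases hj : i + j < d k
    · rw [C.mem_ker_pow.1 x.2 k i hj, C.mem_ker_pow.1 y.2 k i hj]
    · exact congrFun h ⟨k, ⟨⟨i, hi⟩, by show d k ≤ i + j; omega⟩⟩
  have hsurj : Function.Surjective f := by
    intro c
    let c' : κ → ℕ → F := fun k i => if h : i < d k ∧ d k ≤ i + j then c ⟨k, ⟨⟨i, h.1⟩, h.2⟩⟩ else 0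
    refine ⟨⟨C.vec c', C.mem_ker_pow.2 fun k i hi => ?_⟩, funext fun ⟨k, ⟨i, hi⟩⟩ => ?_⟩
    · rw [C.co_vec _ (by omega)]
      exact dif_neg (by omega)
    · show C.co k i (C.vec c') = _
      rw [C.co_vec _ i.2]
      exact dif_pos ⟨i.2, hi⟩
  rw [(LinearEquiv.ofBijective f ⟨hinj, hsurj⟩).finrank_eq, finrank_pi, Fintype.card_sigma]
  exact Finset.sum_congr rfl fun k _ => card_fin_sub _ _

theorem count_gt_eq {κ' : Type*} [Fintype κ] [Fintype κ'] {d : κ → ℕ} {d' : κ' → ℕ}
    (h : ∀ j, ∑ k, min (d k) j = ∑ k, min (d' k) j) (j : ℕ) :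
    (Finset.univ.filter fun k => j < d k).card = (Finset.univ.filter fun k => j < d' k).card := by
  have a := sum_min_succ d j
  have b := sum_min_succ d' j
  have c := h j
  have e := h (j + 1)
  omega

theorem count_eq {κ' : Type*} [Fintype κ] [Fintype κ'] {d : κ → ℕ} {d' : κ' → ℕ}
    (h : ∀ j, ∑ k, min (d k) j = ∑ k, min (d' k) j) {j : ℕ} (hj : 1 ≤ j) :
    (Finset.univ.filter fun k => d k = j).card = (Finset.univ.filter fun k => d' k = j).card := by
  have a := card_ge_split d hj
  have b := card_ge_split d' hj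
  have c := count_gt_eq h (j - 1)
  have e := count_gt_eq h j
  omega

/-- Equal fibre sizes give a bijection matching the sizes. -/
theorem exists_equiv_index {κ' : Type*} [Fintype κ] [Fintype κ'] {d : κ → ℕ} {d' : κ' → ℕ}
    (h : ∀ j, (Finset.univ.filter fun k => d k = j).card = (Finset.univ.filter fun k => d' k = j).card) :
    ∃ σ : κ ≃ κ', ∀ k, d' (σ k) = d k := by
  classical
  have e : ∀ j, {k // d k = j} ≃ {k // d' k = j} := fun j =>
    Fintype.equivOfCardEq (by rw [Fintype.card_subtype, Fintype.card_subtype]; exact h j)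
  exact ⟨Equiv.ofFiberEquiv e, fun k => Equiv.ofFiberEquiv_map e k⟩

/-- Coordinates transported along a bijection of the blocks. -/
noncomputable def Coords.reindex {κ' : Type*} {d' : κ' → ℕ} (σ : κ ≃ κ') (hσ : ∀ k, d' (σ k) = d k) :
    Coords N d' where
  E := C.E.trans (LinearEquiv.funCongrLeft F F
    ((Equiv.sigmaCongrRight fun k' => finCongr (show d' k' = d (σ.symm k') by rw [← hσ, Equiv.apply_symm_apply])).trans
      (Equiv.sigmaCongrLeft (β := fun k => Fin (d k)) σ.symm)))
  zero' x k h := C.zero' x (σ.symm k) _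
  succ' x k i h := C.succ' x (σ.symm k) i _

/-- The type determines the map up to equivalence. -/
theorem exists_conj {V' : Type*} [AddCommGroup V'] [Module F V'] {N' : Module.End F V'}
    (C : Coords N d) (C' : Coords N' d) : ∃ e : V ≃ₗ[F] V', ∀ x, e (N x) = N' (e x) := by
  refine ⟨C.E.trans C'.E.symm, fun x => C'.E.injective (funext fun ⟨k, ⟨i, hi⟩⟩ => ?_)⟩
  simp only [LinearEquiv.trans_apply, LinearEquiv.apply_symm_apply]
  rcases i with _ | i
  · rw [C.zero', C'.zero']
  · rw [C.succ', C'.succ', LinearEquiv.apply_symm_apply]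

/-- Every nilpotent endomorphism has shift coordinates, with non-empty blocks. -/
theorem exists_coords [FiniteDimensional F V] (N : Module.End F V) (hN : IsNilpotent N) :
    ∃ (t : ℕ) (d : Fin t → ℕ), (∀ k, 1 ≤ d k) ∧ Nonempty (Coords N d) := by
  classical
  obtain ⟨m, hm⟩ := hN
  have htor : Module.IsTorsion' (Module.AEval' N) (Submonoid.powers (X : F[X])) := by
    intro x
    refine ⟨⟨X ^ m, m, rfl⟩, ?_⟩
    obtain ⟨y, rfl⟩ := (Module.AEval'.of N).surjective x
    show (X : F[X]) ^ m • Module.AEval'.of N y = 0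
    rw [Module.AEval.X_pow_smul_of, hm, zero_smul, map_zero]
  obtain ⟨s, k, ⟨Φ⟩⟩ := Module.torsion_by_prime_power_decomposition irreducible_X htor
  let Ψ := Φ.trans (DirectSum.linearEquivFunOnFintype F[X] (Fin s) fun i => F[X] ⧸ Submodule.span F[X] {X ^ k i})
  let cf : (i : Fin s) → Fin (k i) → (F[X] ⧸ Submodule.span F[X] {X ^ k i}) →ₗ[F] F := fun i j =>
    ((Submodule.restrictScalars F (Submodule.span F[X] {(X : F[X]) ^ k i})).liftQ (lcoeff F (j : ℕ)) (by
      intro g hg
      obtain ⟨h, rfl⟩ := Submodule.mem_span_singleton.1 hg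
      show (h • (X : F[X]) ^ k i).coeff j = 0
      rw [smul_eq_mul, coeff_mul_X_pow', if_neg (by have := j.2; omega)])).comp
        (Submodule.Quotient.restrictScalarsEquiv F (Submodule.span F[X] {(X : F[X]) ^ k i})).symm.toLinearMap
  have hcf : ∀ i j (g : F[X]), cf i j (Submodule.Quotient.mk g) = g.coeff (j : ℕ) := fun i j g => rfl
  let L : V →ₗ[F] ((i : Fin s) × Fin (k i) → F) := LinearMap.pi fun p =>
    (cf p.1 p.2).comp ((LinearMap.proj p.1).comp ((Ψ.toLinearMap.restrictScalars F).comp (Module.AEval'.of N).toLinearMap))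
  have hL : ∀ x (i : Fin s) j, L x ⟨i, j⟩ = cf i j (Ψ (Module.AEval'.of N x) i) := fun x i j => rfl
  have hinj : Function.Injective L := by
    rw [injective_iff_map_eq_zero]
    intro x hx
    have h0 : Ψ (Module.AEval'.of N x) = 0 := funext fun i => by
      obtain ⟨g, hg⟩ := Submodule.Quotient.mk_surjective _ (Ψ (Module.AEval'.of N x) i)
      rw [← hg, Pi.zero_apply, Submodule.Quotient.mk_eq_zero]
      have hdvd : (X : F[X]) ^ k i ∣ g := X_pow_dvd_iff.2 fun j hj => by
        have := congrFun hx ⟨i, ⟨j, hj⟩⟩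
        rw [hL, ← hg, hcf] at this
        exact this
      obtain ⟨h, rfl⟩ := hdvd
      exact Submodule.mem_span_singleton.2 ⟨h, mul_comm _ _⟩
    exact (Module.AEval'.of N).map_eq_zero_iff.1 (Ψ.map_eq_zero_iff.1 h0)
  have hsurj : Function.Surjective L := by
    intro c
    refine ⟨(Module.AEval'.of N).symm (Ψ.symm fun i => Submodule.Quotient.mk (∑ j : Fin (k i), monomial (j : ℕ) (c ⟨i, j⟩))),
      funext fun ⟨i, j⟩ => ?_⟩
    rw [hL, LinearEquiv.apply_symm_apply, LinearEquiv.apply_symm_apply, hcf, finset_sum_coeff,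
      Finset.sum_eq_single j (fun b _ hb => by rw [coeff_monomial, if_neg fun h => hb (Fin.ext h)]) (by simp),
      coeff_monomial, if_pos rfl]
  have hshift : ∀ x i, ∃ g : F[X], Ψ (Module.AEval'.of N x) i = Submodule.Quotient.mk g ∧
      Ψ (Module.AEval'.of N (N x)) i = Submodule.Quotient.mk (X * g) := by
    intro x i
    obtain ⟨g, hg⟩ := Submodule.Quotient.mk_surjective _ (Ψ (Module.AEval'.of N x) i)
    refine ⟨g, hg.symm, ?_⟩
    rw [← Module.AEval'.X_smul_of, map_smul, Pi.smul_apply, ← hg]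
    rfl
  let C0 : Coords N k :=
    { E := LinearEquiv.ofBijective L ⟨hinj, hsurj⟩
      zero' := fun x i h => by
        obtain ⟨g, -, h2⟩ := hshift x i
        show L (N x) ⟨i, ⟨0, h⟩⟩ = 0
        rw [hL, h2, hcf]
        exact coeff_X_mul_zero g
      succ' := fun x i j h => by
        obtain ⟨g, h1, h2⟩ := hshift x i
        show L (N x) ⟨i, ⟨j + 1, h⟩⟩ = L x ⟨i, ⟨j, _⟩⟩
        rw [hL, hL, h2, h1, hcf, hcf]
        exact coeff_X_mul g j }
  -- drop the empty blocks
  let ε := Fintype.equivFin {i : Fin s // 1 ≤ k i}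
  let d : Fin (Fintype.card {i : Fin s // 1 ≤ k i}) → ℕ := fun a => k (ε.symm a).1
  let drop : ((a : Fin (Fintype.card {i : Fin s // 1 ≤ k i})) × Fin (d a)) → ((i : Fin s) × Fin (k i)) :=
    fun p => ⟨(ε.symm p.1).1, p.2⟩
  have hdrop : Function.Bijective drop := by
    refine ⟨fun p p' h => ?_, fun p => ?_⟩
    · obtain ⟨a, i⟩ := p
      obtain ⟨a', i'⟩ := p'
      obtain rfl : a = a' := ε.symm.injective (Subtype.ext (congrArg Sigma.fst h))
      exact congrArg (Sigma.mk a) (eq_of_heq (Sigma.mk.inj h).2)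
    · obtain ⟨i, j⟩ := p
      have hk : 1 ≤ k i := by have := j.2; omega
      refine ⟨⟨ε ⟨i, hk⟩, ⟨j, by simp [d]⟩⟩, ?_⟩
      refine Sigma.ext (by simp [drop]) ?_
      rw [Fin.heq_ext_iff (by simp [drop])]
  refine ⟨_, d, fun a => (ε.symm a).2, ⟨
    { E := C0.E.trans (LinearEquiv.funCongrLeft F F (Equiv.ofBijective drop hdrop))
      zero' := fun x a h => C0.zero' x _ h
      succ' := fun x a i h => C0.succ' x _ i h }⟩⟩

/-! ### The matrix form -/

section Matrix

variable {t : ℕ} (d : Fin t → ℕ)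

theorem jordanTypeMatrix_sub_one_apply (p p' : (k : Fin t) × Fin (d k)) :
    (Cfsg.jordanTypeMatrix d F - 1) p p' = if p.1 = p'.1 ∧ (p.2 : ℕ) = p'.2 + 1 then 1 else 0 := by
  obtain ⟨k, i⟩ := p
  obtain ⟨k', i'⟩ := p'
  rw [Matrix.sub_apply, Cfsg.jordanTypeMatrix]
  by_cases h : k = k'
  · subst h
    rw [Matrix.blockDiagonal'_apply_eq, Cfsg.jordanBlock, Matrix.of_apply]
    by_cases h1 : (i : ℕ) = i'
    · rw [if_pos h1, Fin.ext h1, Matrix.one_apply_eq, if_neg (by omega), sub_self]
    · rw [if_neg h1, Matrix.one_apply_ne (by simp [Fin.ext_iff, h1]), sub_zero]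
      simp
  · rw [Matrix.blockDiagonal'_apply_ne _ _ _ h, Matrix.one_apply_ne (by simp [h]), if_neg (fun hh => h hh.1), sub_zero]

/-- The standard coordinates of the Jordan matrix. -/
def stdCoords : Coords (Matrix.toLin' (Cfsg.jordanTypeMatrix d F - 1)) d where
  E := LinearEquiv.refl F _
  zero' x k h := by
    show Matrix.mulVec (Cfsg.jordanTypeMatrix d F - 1) x _ = 0
    refine Finset.sum_eq_zero fun p _ => ?_
    show (Cfsg.jordanTypeMatrix d F - 1) _ p * x p = 0
    rw [jordanTypeMatrix_sub_one_apply, if_neg (fun hh => by simp at hh), zero_mul]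
  succ' x k i h := by
    show Matrix.mulVec (Cfsg.jordanTypeMatrix d F - 1) x _ = x _
    rw [Matrix.mulVec, dotProduct, Finset.sum_eq_single ⟨k, ⟨i, by omega⟩⟩]
    · rw [jordanTypeMatrix_sub_one_apply, if_pos ⟨rfl, rfl⟩, one_mul]
    · rintro ⟨k', i'⟩ _ hne
      rw [jordanTypeMatrix_sub_one_apply, if_neg, zero_mul]
      rintro ⟨h1, h2⟩
      simp only at h1 h2
      subst h1
      exact hne (congrArg (Sigma.mk k) (Fin.ext (by show (i' : ℕ) = i; omega)))
    · simp

end Matrix

end Cfsg.Agent.Lib.JordanType
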