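import Cfsg.Agent.Lib.JordanType.Conj
import Cfsg.Agent.Lib.Symplectic.Order

/-!
Jordan types of unipotent isometries: parity of the number of blocks of a given size.
-/

set_option autoImplicit false

namespace Cfsg.Agent.Lib.JordanType

open Module

universe u v w

variable {F : Type u} [Field F] {V : Type v} [AddCommGroup V] [Module F V]
variable {B : LinearMap.BilinForm F V} {N : Module.End F V}

theorem pow_pair_eq_zero {D : ℕ} (hD : N ^ D = 0)
    (hinv : ∀ x y, B (x + N x) (y + N y) = B x y) {x y : V} {a : ℕ} (hx : (N ^ a) x = 0) :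
    ∀ m r s, a + D ≤ r + s + m → a ≤ r + s → B ((N ^ r) x) ((N ^ s) y) = 0 := by
  have hs0 : ∀ r s, D ≤ s → B ((N ^ r) x) ((N ^ s) y) = 0 := fun r s hs => by
    rw [pow_eq_zero_of_le hs hD, LinearMap.zero_apply, map_zero]
  have hr0 : ∀ r s, a ≤ r → B ((N ^ r) x) ((N ^ s) y) = 0 := fun r s hr => by
    obtain ⟨c, rfl⟩ := Nat.exists_eq_add_of_le hr
    rw [add_comm, pow_add, Module.End.mul_apply, hx, map_zero, map_zero, LinearMap.zero_apply]
  intro m
  induction m with
  | zero =>
    intro r s h _
    rcases le_or_gt a r with hr | hr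
    · exact hr0 r s hr
    · exact hs0 r s (by omega)
  | succ m ih =>
    intro r
    suffices key : ∀ e r s, r + e = a → a + D ≤ r + s + (m + 1) → a ≤ r + s → B ((N ^ r) x) ((N ^ s) y) = 0 by
      intro s h1 h2
      rcases le_or_gt a r with hr | hr
      · exact hr0 r s hr
      · exact key (a - r) r s (by omega) h1 h2
    intro e
    induction e with
    | zero => intro r s he _ _; exact hr0 r s (by omega)
    | succ e ihe =>
      intro r s he h1 h2
      obtain ⟨s', rfl⟩ : ∃ s', s = s' + 1 := ⟨s - 1, by omega⟩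
      have h := hinv ((N ^ r) x) ((N ^ s') y)
      rw [← Module.End.mul_apply, ← pow_succ', ← Module.End.mul_apply, ← pow_succ'] at h
      simp only [map_add, LinearMap.add_apply] at h
      have e1 := ihe (r + 1) s' (by omega) (by omega) (by omega)
      have e2 := ih (r + 1) (s' + 1) (by omega) (by omega)
      linear_combination h - e1 - e2

/-- Along `r + s = a - 1` only the sign changes. -/
theorem pow_pair_sign (hnil : IsNilpotent N) (hinv : ∀ x y, B (x + N x) (y + N y) = B x y) {x y : V} {a : ℕ}
    (hx : (N ^ a) x = 0) : ∀ r s, r + s + 1 = a →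
      B ((N ^ r) x) ((N ^ s) y) = (-1) ^ r * B x ((N ^ (r + s)) y) := by
  obtain ⟨D, hD⟩ := hnil
  intro r
  induction r with
  | zero => intro s _; simp
  | succ r ih =>
    intro s h
    have h1 := hinv ((N ^ r) x) ((N ^ s) y)
    rw [← Module.End.mul_apply, ← pow_succ', ← Module.End.mul_apply, ← pow_succ'] at h1
    simp only [map_add, LinearMap.add_apply] at h1
    have e1 := pow_pair_eq_zero hD hinv hx (y := y) (a + D) (r + 1) (s + 1) (by omega) (by omega)
    have e2 := ih (s + 1) (by omega)
    rw [show r + 1 + s = r + (s + 1) by omega]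
    conv_rhs => rw [pow_succ]
    linear_combination h1 - e1 - e2

theorem pair_range_ker [FiniteDimensional F V] (hB : B.Nondegenerate) (hrefl : B.IsRefl) (hnil : IsNilpotent N)
    (hinv : ∀ x y, B (x + N x) (y + N y) = B x y) (i : ℕ) :
    B.orthogonal (LinearMap.range (N ^ i)) = LinearMap.ker (N ^ i) := by
  obtain ⟨D, hD⟩ := hnil
  refine (Submodule.eq_of_le_of_finrank_le (fun x hx => ?_) ?_).symm
  · rw [LinearMap.BilinForm.mem_orthogonal_iff]
    rintro _ ⟨y, rfl⟩
    refine hrefl _ _ ?_
    have := pow_pair_eq_zero hD hinv (LinearMap.mem_ker.1 hx) (y := y) (i + D) 0 i (by omega) (by omega)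
    rwa [pow_zero, Module.End.one_apply] at this
  · rw [LinearMap.BilinForm.finrank_orthogonal hB]
    have := (N ^ i).finrank_range_add_finrank_ker
    omega

/-- The blocks of a size where the induced form is alternating come in pairs. -/
theorem even_count [FiniteDimensional F V] (hB : B.Nondegenerate) (hrefl : B.IsRefl)
    (hinv : ∀ x y, B (x + N x) (y + N y) = B x y) {κ : Type w} [Fintype κ] {d : κ → ℕ} (C : Coords N d)
    {j : ℕ} (hj : 1 ≤ j) (halt : ∀ x, (N ^ j) x = 0 → B x ((N ^ (j - 1)) x) = 0) :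
    Even (Finset.univ.filter fun k => d k = j).card := by
  classical
  have hnil : IsNilpotent N := ⟨∑ k, d k, C.pow_eq_zero_iff.2 fun k =>
    Finset.single_le_sum (fun i _ => Nat.zero_le (d i)) (Finset.mem_univ k)⟩
  let τ : ({k // d k = j} → F) →ₗ[F] V :=
    { toFun := fun c => C.vec fun k i => if h : i = 0 ∧ d k = j then c ⟨k, h.2⟩ else 0
      map_add' := fun c c' => C.ext fun k i hi => by
        rw [map_add, C.co_vec _ hi, C.co_vec _ hi, C.co_vec _ hi]
        split <;> simp
      map_smul' := fun a c => C.ext fun k i hi => by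
        rw [map_smul, C.co_vec _ hi, C.co_vec _ hi, RingHom.id_apply]
        split <;> simp }
  have hτco : ∀ c k i, i < d k → C.co k i (τ c) = if h : i = 0 ∧ d k = j then c ⟨k, h.2⟩ else 0 :=
    fun c k i hi => C.co_vec (fun k i => if h : i = 0 ∧ d k = j then c ⟨k, h.2⟩ else 0) hi
  have hτker : ∀ c, (N ^ j) (τ c) = 0 := fun c => LinearMap.mem_ker.1 (C.mem_ker_pow.2 fun k i hi => by
    rw [hτco c k i (by omega), dif_neg]
    rintro ⟨rfl, h⟩
    omega)
  let β : ({k // d k = j} → F) →ₗ[F] ({k // d k = j} → F) →ₗ[F] F := B.compl₁₂ τ ((N ^ (j - 1)).comp τ)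
  have hβ : ∀ c c', β c c' = B (τ c) ((N ^ (j - 1)) (τ c')) := fun c c' => rfl
  have hsymp : Symplectic.IsSympForm β := by
    refine ⟨fun c => halt _ (hτker c), fun c hc => ?_⟩
    -- `τ c` kills `ker N ∩ range N ^ (j - 1)`
    have hperp : τ c ∈ B.orthogonal (LinearMap.ker N ⊓ LinearMap.range (N ^ (j - 1))) := by
      rw [LinearMap.BilinForm.mem_orthogonal_iff]
      rintro _ ⟨hz, y, rfl⟩
      refine hrefl _ _ ?_
      have hy : (N ^ j) y = 0 := by
        rw [← Nat.sub_add_cancel hj, pow_succ', Module.End.mul_apply]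
        exact LinearMap.mem_ker.1 hz
      let c' : {k // d k = j} → F := fun k => C.co k.1 0 y
      obtain ⟨a, ha⟩ : (N ^ (j - 1)) (y - τ c') ∈ LinearMap.range (N ^ j) := by
        refine ⟨C.vec fun k i => C.co k (i + 1) (y - τ c'), C.ext fun k i hi => ?_⟩
        rw [C.co_pow, C.co_pow]
        by_cases h1 : j ≤ i
        · rw [if_pos ⟨h1, hi⟩, if_pos ⟨by omega, hi⟩, C.co_vec _ (by omega)]
          congr 2
          omega
        · rw [if_neg (fun h => h1 h.1)]
          split
          · rename_i h2
            have e : i - (j - 1) = 0 := by omega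
            rw [e, map_sub, hτco c' k 0 (by omega)]
            by_cases hk : d k = j
            · rw [dif_pos ⟨rfl, hk⟩]; exact (sub_self _).symm
            · rw [dif_neg (fun h => hk h.2), sub_zero]
              exact (C.mem_ker_pow.1 (LinearMap.mem_ker.2 hy) k 0 (by omega)).symm
          · rfl
      obtain ⟨D, hD⟩ := hnil
      have h0 := pow_pair_eq_zero hD hinv (hτker c) (y := a) (j + D) 0 j (by omega) (by omega)
      rw [pow_zero, Module.End.one_apply, ha, map_sub, map_sub, sub_eq_zero] at h0
      rw [h0, ← hβ, hc]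
    have hle : B.orthogonal (LinearMap.range N ⊔ LinearMap.ker (N ^ (j - 1))) ≤
        LinearMap.ker N ⊓ LinearMap.range (N ^ (j - 1)) := by
      intro z hz
      have h1 := LinearMap.BilinForm.orthogonal_le (B := B) (le_sup_left : LinearMap.range N ≤ _) hz
      have h2 := LinearMap.BilinForm.orthogonal_le (B := B) (le_sup_right (a := LinearMap.range N)) hz
      refine ⟨?_, ?_⟩
      · have h3 := pair_range_ker hB hrefl hnil hinv 1
        rw [pow_one] at h3
        exact h3 ▸ h1
      · rw [← pair_range_ker hB hrefl hnil hinv (j - 1), LinearMap.BilinForm.orthogonal_orthogonal hB hrefl] at h2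
        exact h2
    have hmem := LinearMap.BilinForm.orthogonal_le hle hperp
    rw [LinearMap.BilinForm.orthogonal_orthogonal hB hrefl, Submodule.mem_sup] at hmem
    obtain ⟨_, ⟨a, rfl⟩, e, he, hsum⟩ := hmem
    funext k
    have h1 := congrArg (C.co k.1 0) hsum
    rw [hτco c k.1 0 (by rw [k.2]; exact hj), dif_pos ⟨rfl, k.2⟩, map_add,
      C.mem_ker_pow.1 he k.1 0 (by rw [k.2]; omega), add_zero] at h1
    have h2 := C.co_pow a 1 k.1 0
    rw [pow_one, if_neg (by omega)] at h2
    rw [h2] at h1
    exact h1.symm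
  have h := Symplectic.even_finrank hsymp
  rwa [Module.finrank_fintype_fun_eq_card, Fintype.card_subtype] at h

/-- Alternating forms: odd sizes come in pairs. -/
theorem even_count_of_alt [FiniteDimensional F V] (hB : B.Nondegenerate) (hA : B.IsAlt)
    (hinv : ∀ x y, B (x + N x) (y + N y) = B x y) {κ : Type w} [Fintype κ] {d : κ → ℕ} (C : Coords N d)
    {j : ℕ} (hj : Odd j) : Even (Finset.univ.filter fun k => d k = j).card := by
  refine even_count hB hA.isRefl hinv C hj.pos fun x hx => ?_
  obtain ⟨h, rfl⟩ := hj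
  have hnil : IsNilpotent N := ⟨∑ k, d k, C.pow_eq_zero_iff.2 fun k =>
    Finset.single_le_sum (fun i _ => Nat.zero_le (d i)) (Finset.mem_univ k)⟩
  have := pow_pair_sign hnil hinv hx (y := x) h h (by omega)
  rw [hA.self_eq_zero] at this
  rw [show 2 * h + 1 - 1 = h + h by omega]
  exact (mul_eq_zero.1 this.symm).resolve_left (pow_ne_zero _ (neg_ne_zero.2 one_ne_zero))

/-- Symmetric forms away from characteristic two: even sizes come in pairs. -/
theorem even_count_of_symm [FiniteDimensional F V] (hB : B.Nondegenerate) (hsymm : ∀ x y, B x y = B y x)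
    (h2 : (2 : F) ≠ 0) (hinv : ∀ x y, B (x + N x) (y + N y) = B x y) {κ : Type w} [Fintype κ] {d : κ → ℕ}
    (C : Coords N d) {j : ℕ} (hj : Even j) (hj0 : 0 < j) :
    Even (Finset.univ.filter fun k => d k = j).card := by
  refine even_count hB (fun x y h => (hsymm y x).trans h) hinv C hj0 fun x hx => ?_
  obtain ⟨h, rfl⟩ := hj
  have hnil : IsNilpotent N := ⟨∑ k, d k, C.pow_eq_zero_iff.2 fun k =>
    Finset.single_le_sum (fun i _ => Nat.zero_le (d i)) (Finset.mem_univ k)⟩
  have := pow_pair_sign hnil hinv hx (y := x) (h + h - 1) 0 (by omega)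
  rw [pow_zero, Module.End.one_apply, add_zero, Odd.neg_one_pow ⟨h - 1, by omega⟩, hsymm] at this
  have h3 : (2 : F) * B x ((N ^ (h + h - 1)) x) = 0 := by linear_combination this
  exact (mul_eq_zero.1 h3).resolve_left h2

end Cfsg.Agent.Lib.JordanType
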