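import Cfsg.Agent.Lib.JordanType.Realise

/-!
Gluing forms on single blocks and on pairs of blocks to an invariant form of a given Jordan type.
-/

set_option autoImplicit false

namespace Cfsg.Agent.Lib.JordanType

open Module

universe u

variable {F : Type u} [Field F]

/-- A fixed-point-prescribed involution of the blocks preserving the sizes. -/
theorem exists_pairing {t : ℕ} (d : Fin t → ℕ) (single : ℕ → Prop)
    (h : ∀ j, ¬ single j → Even (Finset.univ.filter fun k => d k = j).card) :
    ∃ π : Fin t → Fin t, (∀ k, π (π k) = k) ∧ (∀ k, d (π k) = d k) ∧ ∀ k, π k = k → single (d k) := by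
  classical
  have hσ : ∀ j, ∃ σ : {k // d k = j} → {k // d k = j}, (∀ k, σ (σ k) = k) ∧ ∀ k, σ k = k → single j := by
    intro j
    by_cases hs : single j
    · exact ⟨id, fun k => rfl, fun k _ => hs⟩
    obtain ⟨m, hm⟩ := h j hs
    let e : {k // d k = j} ≃ Fin m ⊕ Fin m := Fintype.equivOfCardEq (by
      rw [Fintype.card_subtype, hm, Fintype.card_sum, Fintype.card_fin])
    refine ⟨fun k => e.symm (e k).swap, fun k => ?_, fun k hk => ?_⟩
    · dsimp only
      rw [e.apply_symm_apply, Sum.swap_swap, e.symm_apply_apply]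
    · exfalso
      have h1 := congrArg e hk
      rw [e.apply_symm_apply] at h1
      rcases hek : e k with a | a <;> rw [hek] at h1 <;> simp at h1
  choose σ hσσ hσfix using hσ
  let π : Fin t → Fin t := fun k => (σ (d k) ⟨k, rfl⟩).1
  have key : ∀ j k (hk : d k = j), π k = (σ j ⟨k, hk⟩).1 := by
    intro j k hk
    subst hk
    rfl
  refine ⟨π, fun k => ?_, fun k => (σ (d k) ⟨k, rfl⟩).2, fun k hk => hσfix (d k) ⟨k, rfl⟩ (Subtype.ext hk)⟩
  rw [key (d k) (π k) (σ (d k) ⟨k, rfl⟩).2]
  exact congrArg Subtype.val (hσσ (d k) ⟨k, rfl⟩)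

/-- The Jordan matrix type carries an invariant form when every size is single or paired. -/
theorem exists_glue {t : ℕ} (d : Fin t → ℕ) {ε : F} (hε : ε * ε = 1) (single : ℕ → Prop)
    (heven : ∀ j, ¬ single j → Even (Finset.univ.filter fun k => d k = j).card)
    (S : (n : ℕ) → LinearMap.BilinForm F (Fin n → F))
    (hS1 : ∀ n, single n → ∀ x y, S n y x = ε * S n x y)
    (hS2 : ∀ n, single n → ∀ x, (∀ y, S n x y = 0) → x = 0)
    (hS3 : ∀ n, single n → ∀ x y, S n (x + sh F n x) (y + sh F n y) = S n x y) :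
    ∃ B : LinearMap.BilinForm F (((k : Fin t) × Fin (d k)) → F),
      (∀ x, (∀ y, B x y = 0) → x = 0) ∧ (∀ x y, B y x = ε * B x y) ∧
      (∀ x y, B (x + Matrix.toLin' (Cfsg.jordanTypeMatrix d F - 1) x) (y + Matrix.toLin' (Cfsg.jordanTypeMatrix d F - 1) y) = B x y) ∧
      (ε = -1 → (∀ n, single n → ∀ x, S n x x = 0) → ∀ x, B x x = 0) := by
  classical
  obtain ⟨π, hππ, hπd, hπs⟩ := exists_pairing d single heven
  choose H hH1 hH2 hH3 using fun n => exists_pair_form (F := F) n
  have hε0 : ε ≠ 0 := fun h => by rw [h, mul_zero] at hε; exact zero_ne_one hε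
  let flag : Fin t → Fin 3 := fun k => if π k = k then 0 else if k < π k then 1 else 2
  let b : Fin 3 → (n : ℕ) → LinearMap.BilinForm F (Fin n → F) := fun s n =>
    if s = 0 then S n else if s = 1 then H n else ε • (H n).flip
  let C := stdCoords (F := F) d
  let r : (n : ℕ) → Fin t → (((k : Fin t) × Fin (d k)) → F) →ₗ[F] (Fin n → F) := fun n l =>
    LinearMap.pi fun i => C.co l (i : ℕ)
  let term : Fin t → LinearMap.BilinForm F (((k : Fin t) × Fin (d k)) → F) := fun k =>
    (b (flag k) (d k)).compl₁₂ (r (d k) k) (r (d k) (π k))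
  let B := ∑ k, term k
  have hB : ∀ x y, B x y = ∑ k, b (flag k) (d k) (r (d k) k x) (r (d k) (π k) y) := fun x y => by
    simp [B, term, LinearMap.sum_apply]
  have hflag : ∀ k, π k ≠ k → (flag k = 1 ∧ flag (π k) = 2) ∨ (flag k = 2 ∧ flag (π k) = 1) := by
    intro k hk
    have hk' : π (π k) ≠ π k := fun h => hk (by rw [hππ] at h; exact h.symm)
    rcases lt_or_gt_of_ne (Ne.symm hk) with hlt | hgt
    · exact Or.inl ⟨by simp only [flag]; rw [if_neg hk, if_pos hlt],
        by simp only [flag]; rw [if_neg hk', hππ, if_neg (asymm hlt)]⟩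
    · exact Or.inr ⟨by simp only [flag]; rw [if_neg hk, if_neg (asymm hgt)],
        by simp only [flag]; rw [if_neg hk', hππ, if_pos hgt]⟩
  have hb1 : ∀ n, b 1 n = H n := fun n => by simp [b]
  have hb2 : ∀ n x y, b 2 n x y = ε * H n y x := fun n x y => by simp [b]
  have hswap : ∀ k u v, b (flag (π k)) (d k) v u = ε * b (flag k) (d k) u v := by
    intro k u v
    by_cases hk : π k = k
    · have h0 : flag k = 0 := if_pos hk
      rw [hk, h0]
      exact hS1 _ (hπs k hk) u v
    rcases hflag k hk with ⟨h1, h2⟩ | ⟨h1, h2⟩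
    · rw [h1, h2, hb1, hb2]
    · rw [h1, h2, hb1, hb2, ← mul_assoc, hε, one_mul]
  have hflip : ∀ x y, B y x = ε * B x y := by
    intro x y
    rw [hB, hB, Finset.mul_sum]
    refine Fintype.sum_equiv ⟨π, π, hππ, hππ⟩ _ _ fun k => ?_
    show _ = ε * b (flag (π k)) (d (π k)) (r (d (π k)) (π k) x) (r (d (π k)) (π (π k)) y)
    rw [hππ, hπd, hswap k (r (d k) k y) (r (d k) (π k) x), ← mul_assoc, hε, one_mul]
  have hr : ∀ n l, d l = n → ∀ x, r n l (x + Matrix.toLin' (Cfsg.jordanTypeMatrix d F - 1) x) = r n l x + sh F n (r n l x) := by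
    intro n l hl x
    rw [map_add]
    congr 1
    funext i
    have h := C.co_pow x 1 l (i : ℕ)
    rw [pow_one] at h
    show C.co l (i : ℕ) _ = if (i : ℕ) = 0 then 0 else C.co l ((i : ℕ) - 1) x
    rw [h]
    by_cases hi : (i : ℕ) = 0
    · rw [if_pos hi, if_neg (by omega)]
    · rw [if_neg hi, if_pos ⟨by omega, by rw [hl]; exact i.2⟩]
  refine ⟨B, fun x hx => ?_, hflip, fun x y => ?_, fun hε1 halt x => ?_⟩
  · refine C.ext fun k i hi => ?_
    rw [map_zero]
    have hzero : ∀ z, b (flag k) (d k) (r (d k) k x) z = 0 := by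
      intro z
      let y := C.vec fun l i => if h : l = π k ∧ i < d k then z ⟨i, h.2⟩ else 0
      have h1 := hx y
      rw [hB, Finset.sum_eq_single k ?_ (fun h => absurd (Finset.mem_univ k) h)] at h1
      · rwa [show r (d k) (π k) y = z from funext fun i => by
          show C.co (π k) (i : ℕ) y = z i
          rw [C.co_vec _ (by rw [hπd]; exact i.2)]
          exact dif_pos ⟨rfl, i.2⟩] at h1
      · intro l _ hl
        rw [show r (d l) (π l) y = 0 from funext fun i => by
          show C.co (π l) (i : ℕ) y = 0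
          rw [C.co_vec _ (by rw [hπd]; exact i.2)]
          exact dif_neg fun h => hl (by have := congrArg π h.1; rwa [hππ, hππ] at this), map_zero]
    have h0 : r (d k) k x = 0 := by
      by_cases hk : π k = k
      · refine hS2 _ (hπs k hk) _ fun z => ?_
        have h := hzero z
        rwa [show flag k = 0 from if_pos hk] at h
      rcases hflag k hk with ⟨h1, -⟩ | ⟨h1, -⟩
      · refine hH2 _ _ fun z => ?_
        have h := hzero z
        rwa [h1, hb1] at h
      · refine hH1 _ _ fun z => ?_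
        have h := hzero z
        rw [h1, hb2, mul_eq_zero] at h
        exact h.resolve_left hε0
    exact congrFun h0 ⟨i, hi⟩
  · rw [hB, hB]
    refine Finset.sum_congr rfl fun k _ => ?_
    rw [hr _ _ rfl, hr _ _ (hπd k)]
    by_cases hk : π k = k
    · rw [show flag k = 0 from if_pos hk]
      exact hS3 _ (hπs k hk) _ _
    rcases hflag k hk with ⟨h1, -⟩ | ⟨h1, -⟩
    · rw [h1, hb1]; exact hH3 _ _ _
    · rw [h1, hb2, hb2, hH3]
  · rw [hB]
    refine Finset.sum_involution (fun k _ => π k) ?_ ?_ (fun k _ => Finset.mem_univ _) (fun k _ => hππ k)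
    · intro k _
      simp only [hππ]
      rw [hπd k]
      rw [hswap k (r (d k) k x) (r (d k) (π k) x), hε1]
      ring
    · intro k _ hne hk
      refine hne ?_
      rw [hk, show flag k = 0 from if_pos hk]
      exact halt _ (hπs k hk) _

end Cfsg.Agent.Lib.JordanType
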