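import Cfsg.Agent.Lib.JordanType.Basic

/-!
The commutant of a nilpotent map of given Jordan type, and the number of its invertible elements.
-/

set_option autoImplicit false

namespace Cfsg.Agent.Lib.JordanType

open Module

universe u v

variable {F : Type u} [Field F] {V : Type v} [AddCommGroup V] [Module F V]
variable {N : Module.End F V} {κ : Type} [Fintype κ] {d : κ → ℕ} (C : Coords N d)

/-- Images of the block generators. -/
abbrev Images (N : Module.End F V) (d : κ → ℕ) : Type v := (l : κ) → LinearMap.ker (N ^ d l)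

theorem Coords.co_sum (y : κ → V) (x : V) (k : κ) (j : ℕ) :
    C.co k j (∑ p : (l : κ) × Fin (d l), C.E x p • (N ^ (p.2 : ℕ)) (y p.1)) =
      ∑ p : (l : κ) × Fin (d l), C.co p.1 p.2 x * C.co k j ((N ^ (p.2 : ℕ)) (y p.1)) := by
  rw [map_sum]
  refine Finset.sum_congr rfl fun p _ => ?_
  rw [map_smul, smul_eq_mul, C.co_of_lt p.2.2]

/-- The generator of block `l`. -/
noncomputable def Coords.gen [DecidableEq κ] (l : κ) : V := C.vec fun k i => if k = l ∧ i = 0 then 1 else 0

theorem Coords.gen_mem [DecidableEq κ] (l : κ) : C.gen l ∈ LinearMap.ker (N ^ d l) := by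
  refine C.mem_ker_pow.2 fun k i hi => ?_
  rw [Coords.gen, C.co_vec _ (by omega), if_neg]
  rintro ⟨rfl, rfl⟩
  omega

/-- The commuting map with given images of the generators. -/
noncomputable def Coords.ofImages (y : Images N d) : Module.End F V where
  toFun x := ∑ p : (l : κ) × Fin (d l), C.E x p • (N ^ (p.2 : ℕ)) (y p.1 : V)
  map_add' x x' := by simp [add_smul, Finset.sum_add_distrib]
  map_smul' a x := by simp [Finset.smul_sum, smul_smul]

theorem Coords.ofImages_apply (y : Images N d) (x : V) :
    C.ofImages y x = ∑ p : (l : κ) × Fin (d l), C.E x p • (N ^ (p.2 : ℕ)) (y p.1 : V) := rfl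

theorem Coords.ofImages_commute (y : Images N d) : Commute (C.ofImages y) N := by
  refine LinearMap.ext fun x => ?_
  rw [Module.End.mul_apply, Module.End.mul_apply, C.ofImages_apply, C.ofImages_apply, map_sum,
    Fintype.sum_sigma, Fintype.sum_sigma]
  refine Finset.sum_congr rfl fun l _ => ?_
  have hy : (N ^ d l) (y l : V) = 0 := LinearMap.mem_ker.1 (y l).2
  simp only [map_smul]
  have e : ∀ i : Fin (d l), C.E (N x) ⟨l, i⟩ = C.co l (i : ℕ) ((N ^ 1) x) := fun i => by
    rw [pow_one, C.co_of_lt i.2]
  rw [Finset.sum_congr rfl (g := fun i : Fin (d l) => C.co l (i : ℕ) ((N ^ 1) x) • (N ^ (i : ℕ)) (y l : V))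
      fun i _ => by rw [← e i],
    Finset.sum_congr rfl (s₁ := Finset.univ) (f := fun i : Fin (d l) => C.E x ⟨l, i⟩ • N ((N ^ (i : ℕ)) (y l : V)))
      (g := fun i : Fin (d l) => C.co l (i : ℕ) x • (N ^ ((i : ℕ) + 1)) (y l : V))
      fun i _ => by rw [pow_succ', Module.End.mul_apply, C.co_of_lt i.2]]
  rw [Fin.sum_univ_eq_sum_range (fun i => C.co l i ((N ^ 1) x) • (N ^ i) (y l : V)),
    Fin.sum_univ_eq_sum_range (fun i => C.co l i x • (N ^ (i + 1)) (y l : V))]
  generalize (y l : V) = z at hy ⊢
  rcases Nat.eq_zero_or_pos (d l) with h0 | h0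
  · rw [h0, Finset.sum_range_zero, Finset.sum_range_zero]
  obtain ⟨m, hm⟩ : ∃ m, d l = m + 1 := ⟨d l - 1, by omega⟩
  rw [hm, Finset.sum_range_succ', Finset.sum_range_succ (fun i => C.co l i x • (N ^ (i + 1)) z),
    C.co_pow, if_neg (by omega), zero_smul, add_zero, ← hm, hy, smul_zero, add_zero]
  refine Finset.sum_congr rfl fun i hi => ?_
  rw [C.co_pow, if_pos ⟨by omega, by rw [Finset.mem_range] at hi; omega⟩, Nat.add_sub_cancel]

theorem Coords.ofImages_gen [DecidableEq κ] (y : Images N d) (l : κ) : C.ofImages y (C.gen l) = y l := by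
  rw [C.ofImages_apply]
  rcases Nat.eq_zero_or_pos (d l) with h0 | h0
  · have hy : (y l : V) = 0 := by
      have := LinearMap.mem_ker.1 (y l).2
      generalize (y l : V) = z at this
      rwa [h0, pow_zero, Module.End.one_apply] at this
    rw [hy]
    refine Finset.sum_eq_zero fun p _ => ?_
    rw [← C.co_of_lt p.2.2, Coords.gen, C.co_vec _ p.2.2, if_neg, zero_smul]
    rintro ⟨h1, -⟩
    have := p.2.2
    have := congrArg d h1
    omega
  rw [Finset.sum_eq_single ⟨l, ⟨0, h0⟩⟩]
  · rw [← C.co_of_lt h0, Coords.gen, C.co_vec _ h0, if_pos ⟨rfl, rfl⟩, one_smul]; simp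
  · rintro ⟨k, ⟨i, hi⟩⟩ _ hne
    rw [← C.co_of_lt hi, Coords.gen, C.co_vec _ hi, if_neg, zero_smul]
    rintro ⟨rfl, rfl⟩
    exact hne rfl
  · simp

/-- The images of the generators under a commuting map. -/
noncomputable def Coords.images [DecidableEq κ] (g : {g : Module.End F V // Commute g N}) : Images N d :=
  fun l => ⟨g.1 (C.gen l), LinearMap.mem_ker.2 (by
    rw [← Module.End.mul_apply, ← (g.2.pow_right (d l)).eq, Module.End.mul_apply,
      LinearMap.mem_ker.1 (C.gen_mem l), map_zero])⟩

theorem Coords.eq_sum_gen [DecidableEq κ] (x : V) :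
    x = ∑ p : (l : κ) × Fin (d l), C.E x p • (N ^ (p.2 : ℕ)) (C.gen p.1) := by
  refine C.ext fun k j hj => ?_
  rw [C.co_sum (fun l => C.gen l), Finset.sum_eq_single ⟨k, ⟨j, hj⟩⟩]
  · rw [C.co_pow, if_pos ⟨le_rfl, hj⟩, Coords.gen, C.co_vec _ (by omega), if_pos ⟨rfl, Nat.sub_self j⟩, mul_one]
  · rintro ⟨l, ⟨i, hi⟩⟩ _ hne
    rw [C.co_pow]
    split
    · rename_i h
      rw [Coords.gen, C.co_vec _ (by omega), if_neg, mul_zero]
      rintro ⟨rfl, h0⟩
      exact hne (by
        obtain rfl : i = j := by dsimp only at h h0 ⊢; omega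
        rfl)
    · rw [mul_zero]
  · simp

/-- Commuting maps are their generator images. -/
noncomputable def Coords.commutantEquiv [DecidableEq κ] : {g : Module.End F V // Commute g N} ≃ Images N d where
  toFun g := C.images g
  invFun y := ⟨C.ofImages y, C.ofImages_commute y⟩
  left_inv g := Subtype.ext (LinearMap.ext fun x => by
    conv_rhs => rw [C.eq_sum_gen x, map_sum]
    show C.ofImages (C.images g) x = _
    rw [C.ofImages_apply]
    refine Finset.sum_congr rfl fun p _ => ?_
    rw [map_smul, ← Module.End.mul_apply, ← (g.2.symm.pow_left (p.2 : ℕ)).eq]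
    rfl)
  right_inv y := funext fun l => Subtype.ext (C.ofImages_gen y l)

/-- The leading coefficient is `0` from a smaller to a larger block. -/
theorem Coords.top_eq_zero (y : Images N d) {k l : κ} (h : d l < d k) : C.co k 0 (y l : V) = 0 :=
  C.mem_ker_pow.1 (y l).2 k 0 (by omega)

/-- The first coordinate after applying a commuting map. -/
theorem Coords.co_zero_ofImages (y : Images N d) (x : V) (k : κ) :
    C.co k 0 (C.ofImages y x) = ∑ l, C.co l 0 x * C.co k 0 (y l : V) := by
  rw [C.ofImages_apply, C.co_sum (fun l => (y l : V)), Fintype.sum_sigma]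
  refine Finset.sum_congr rfl fun l _ => ?_
  rcases Nat.eq_zero_or_pos (d l) with h0 | h0
  · rw [C.co_of_ge (show d l ≤ 0 by omega), zero_mul]
    exact Finset.sum_eq_zero fun i _ => absurd i.2 (by omega)
  rw [Finset.sum_eq_single ⟨0, h0⟩]
  · simp
  · intro i _ hi
    rw [C.co_pow, if_neg, mul_zero]
    rintro ⟨h1, -⟩
    exact hi (Fin.ext (by show (i : ℕ) = 0; dsimp only at *; omega))
  · simp

/-- The block matrix of leading coefficients for blocks of size `j`. -/
noncomputable def Coords.top (j : ℕ) : Images N d →ₗ[F] Matrix {k // d k = j} {k // d k = j} F where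
  toFun y := Matrix.of fun k l => C.co k.1 0 (y l.1 : V)
  map_add' y y' := by ext k l; simp
  map_smul' a y := by ext k l; simp

theorem Coords.top_apply (j : ℕ) (y : Images N d) (k l : {k // d k = j}) :
    C.top j y k l = C.co k.1 0 (y l.1 : V) := rfl

theorem Coords.injective_of_top [DecidableEq κ] (y : Images N d) (h : ∀ j, IsUnit (C.top j y)) :
    Function.Injective (C.ofImages y) := by
  classical
  rw [injective_iff_map_eq_zero]
  intro x hx
  refine C.ext fun k i hi => ?_
  rw [map_zero]
  induction i using Nat.strong_induction_on generalizing k with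
  | _ i ih =>
    by_contra hne
    obtain ⟨m, hm, hmax⟩ := (Finset.univ.filter fun l => i < d l ∧ C.co l i x ≠ 0).exists_max_image d
      ⟨k, by simp [hi, hne]⟩
    rw [Finset.mem_filter] at hm
    have hker : (C.top (d m) y).mulVec (fun l => C.co l.1 i x) = 0 := by
      funext k'
      have h0 : C.co k'.1 i (C.ofImages y x) = 0 := by rw [hx, map_zero]
      rw [C.ofImages_apply, C.co_sum (fun l => (y l : V)), Fintype.sum_sigma] at h0
      have hk' : i < d k'.1 := by rw [k'.2]; exact hm.2.1
      have hterm : ∀ l, ∑ a : Fin (d l), C.co l a x * C.co k'.1 i ((N ^ (a : ℕ)) (y l : V)) =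
          C.co l i x * C.co k'.1 0 (y l : V) := by
        intro l
        by_cases hil : i < d l
        · rw [Finset.sum_eq_single ⟨i, hil⟩]
          · simp [C.co_pow, hk']
          · intro a _ ha
            rw [C.co_pow]
            split
            · rename_i hle
              rw [ih a.1 (lt_of_le_of_ne hle.1 fun h => ha (Fin.ext h)) l a.2, zero_mul]
            · rw [mul_zero]
          · simp
        · rw [C.co_of_ge (by omega), zero_mul]
          refine Finset.sum_eq_zero fun a _ => ?_
          rw [ih a.1 (by omega) l a.2, zero_mul]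
      rw [Finset.sum_congr rfl fun l _ => hterm l] at h0
      have h1 : ∑ l : {l // d l = d m}, C.co l.1 i x * C.co k'.1 0 (y l.1 : V) = 0 := by
        rw [← Finset.sum_subtype (Finset.univ.filter fun l => d l = d m) (by simp)
          (fun l => C.co l i x * C.co k'.1 0 (y l : V))]
        rw [← h0]
        refine Finset.sum_subset (Finset.subset_univ _) fun l _ hl => ?_
        rw [Finset.mem_filter] at hl
        rcases lt_or_gt_of_ne (fun e => hl ⟨Finset.mem_univ l, e⟩) with hlt | hgt
        · rw [C.top_eq_zero y (k := k'.1) (by rw [k'.2]; exact hlt), mul_zero]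
        · have : C.co l i x = 0 := by
            by_contra h2
            have := hmax l (by simp only [Finset.mem_filter, Finset.mem_univ, true_and]; exact ⟨by omega, h2⟩)
            omega
          rw [this, zero_mul]
      refine Eq.trans ?_ h1
      exact Finset.sum_congr rfl fun l _ => mul_comm _ _
    have := Matrix.mulVec_injective_iff_isUnit.2 (h (d m)) (hker.trans (Matrix.mulVec_zero _).symm)
    exact hm.2.2 (congrFun this ⟨m, rfl⟩)

theorem Coords.top_mul [DecidableEq κ] (g h : {g : Module.End F V // Commute g N}) (j : ℕ) :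
    C.top j (C.images ⟨g.1 * h.1, g.2.mul_left h.2⟩) = C.top j (C.images g) * C.top j (C.images h) := by
  ext k l
  rw [C.top_apply, Matrix.mul_apply]
  show C.co k.1 0 (g.1 (h.1 (C.gen l.1))) = _
  have hg : g.1 = C.ofImages (C.images g) := congrArg Subtype.val (C.commutantEquiv.symm_apply_apply g).symm
  conv_lhs => rw [hg, C.co_zero_ofImages]
  rw [← Finset.sum_subset (Finset.subset_univ (Finset.univ.filter fun m => d m = j)) ?_,
    Finset.sum_subtype (p := fun m => d m = j) (Finset.univ.filter fun m => d m = j) (by simp)]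
  · exact Finset.sum_congr rfl fun m _ => mul_comm _ _
  · intro m _ hm
    rw [Finset.mem_filter] at hm
    rcases lt_or_gt_of_ne (fun e => hm ⟨Finset.mem_univ m, e⟩) with hlt | hgt
    · rw [C.top_eq_zero (C.images g) (k := k.1) (by rw [k.2]; exact hlt), mul_zero]
    · rw [show C.co m 0 (h.1 (C.gen l.1)) = 0 from C.top_eq_zero (C.images h) (l := l.1) (by rw [l.2]; exact hgt), zero_mul]

theorem Coords.isUnit_iff [DecidableEq κ] [FiniteDimensional F V] (hd : ∀ k, 1 ≤ d k) (g : {g : Module.End F V // Commute g N}) :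
    IsUnit g.1 ↔ ∀ j, IsUnit (C.top j (C.images g)) := by
  refine ⟨fun hu j => ?_, fun h => ?_⟩
  · obtain ⟨u, hu⟩ := hu
    have hc : Commute ((u⁻¹ : (Module.End F V)ˣ) : Module.End F V) N := Commute.units_inv_left (by rw [hu]; exact g.2)
    have h2 : C.top j (C.images ⟨(1 : Module.End F V), Commute.one_left N⟩) = 1 := by
      ext k l
      rw [C.top_apply]
      show C.co k.1 0 (C.gen l.1) = _
      rw [Coords.gen, C.co_vec _ (hd k.1), Matrix.one_apply]
      by_cases hkl : k = l
      · subst hkl
        rw [if_pos ⟨rfl, rfl⟩, if_pos rfl]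
      · rw [if_neg hkl, if_neg fun hh => hkl (Subtype.ext hh.1)]
    refine IsUnit.of_mul_eq_one (C.top j (C.images ⟨_, hc⟩)) ?_
    rw [← C.top_mul]
    refine Eq.trans ?_ h2
    congr 2
    exact Subtype.ext (show g.1 * ((u⁻¹ : (Module.End F V)ˣ) : Module.End F V) = 1 by rw [← hu]; exact u.mul_inv)
  · have hinj := C.injective_of_top (C.images g) h
    rw [show C.ofImages (C.images g) = g.1 from congrArg Subtype.val (C.commutantEquiv.symm_apply_apply g)] at hinj
    exact (Module.End.isUnit_iff _).2 ⟨hinj, LinearMap.injective_iff_surjective.1 hinj⟩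

end Cfsg.Agent.Lib.JordanType

namespace Cfsg.Agent.Lib.JordanType

open Module

universe u v

variable {F : Type u} [Field F] [Fintype F] {V : Type v} [AddCommGroup V] [Module F V] [FiniteDimensional F V]
variable {N : Module.End F V} {κ : Type} [Fintype κ] [DecidableEq κ] {d : κ → ℕ} (C : Coords N d)

theorem card_units_matrix {ι : Type*} [Fintype ι] [DecidableEq ι] :
    Nat.card {M : Matrix ι ι F // IsUnit M} =
      ∏ i : Fin (Fintype.card ι), (Fintype.card F ^ Fintype.card ι - Fintype.card F ^ (i : ℕ)) := by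
  classical
  rw [← Matrix.card_GL_field, Nat.card_congr (α := {M : Matrix ι ι F // IsUnit M}) (β := (Matrix ι ι F)ˣ)
    (Equiv.ofBijective (fun u : (Matrix ι ι F)ˣ => (⟨u, u.isUnit⟩ : {M : Matrix ι ι F // IsUnit M}))
      ⟨fun a b h => Units.ext (congrArg Subtype.val h), fun M => ⟨M.2.unit, Subtype.ext M.2.unit_spec⟩⟩).symm]
  exact Nat.card_congr (Units.mapEquiv (Matrix.reindexAlgEquiv F F (Fintype.equivFin ι)).toMulEquiv).toEquiv

include C in
theorem finrank_images : finrank F (Images N d) = ∑ l, ∑ k, min (d k) (d l) := by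
  haveI : ∀ l, FiniteDimensional F (LinearMap.ker (N ^ d l)) := fun l => inferInstance
  rw [Module.finrank_pi_fintype]
  exact Finset.sum_congr rfl fun l _ => C.finrank_ker_pow (d l)

include C in
theorem card_units_commutant (hd : ∀ k, 1 ≤ d k) {S : ℕ} (hS : ∀ k, d k ≤ S) :
    Nat.card {g : Module.End F V // Commute g N ∧ IsUnit g} *
      Fintype.card F ^ (∑ j ∈ Finset.range (S + 1), (Finset.univ.filter fun k => d k = j).card ^ 2) =
    Fintype.card F ^ (∑ l, ∑ k, min (d k) (d l)) *
      ∏ j ∈ Finset.range (S + 1), ∏ i : Fin ((Finset.univ.filter fun k => d k = j).card),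
        (Fintype.card F ^ (Finset.univ.filter fun k => d k = j).card - Fintype.card F ^ (i : ℕ)) := by
  classical
  let P := (j : Fin (S + 1)) → Matrix {k // d k = (j : ℕ)} {k // d k = (j : ℕ)} F
  let π : Images N d →ₗ[F] P := LinearMap.pi fun j => C.top j
  have hπ : Function.Surjective π := by
    intro M
    have hlt : ∀ l, d l < S + 1 := fun l => Nat.lt_succ_of_le (hS l)
    let c : κ → κ → ℕ → F := fun l k i =>
      if h : i = 0 ∧ d k = d l then M ⟨d l, hlt l⟩ ⟨k, h.2⟩ ⟨l, rfl⟩ else 0
    refine ⟨fun l => ⟨C.vec (c l), C.mem_ker_pow.2 fun k i hi => ?_⟩, funext fun j => Matrix.ext fun k l => ?_⟩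
    · rw [C.co_vec _ (by omega)]
      exact dif_neg (by rintro ⟨rfl, h⟩; omega)
    · show C.co k.1 0 (C.vec (c l.1)) = _
      rw [C.co_vec _ (hd k.1)]
      show (if h : _ then _ else _) = _
      rw [dif_pos ⟨rfl, k.2.trans l.2.symm⟩]
      obtain ⟨j, hj⟩ := j
      obtain ⟨k, hk⟩ := k
      obtain ⟨l, hl⟩ := l
      simp only at hl
      subst hl
      rfl
  obtain ⟨s, hs⟩ := π.exists_rightInverse_of_surjective (LinearMap.range_eq_top.2 hπ)
  have hs' : ∀ M, π (s M) = M := fun M => LinearMap.congr_fun hs M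
  let Good : P → Prop := fun M => ∀ j, IsUnit (M j)
  let e1 : {g : Module.End F V // Commute g N ∧ IsUnit g} ≃ {y : Images N d // Good (π y)} :=
    { toFun := fun g => ⟨C.images ⟨g.1, g.2.1⟩, fun j => (C.isUnit_iff hd ⟨g.1, g.2.1⟩).1 g.2.2 j⟩
      invFun := fun y => ⟨(C.commutantEquiv.symm y.1).1, (C.commutantEquiv.symm y.1).2, by
        rw [C.isUnit_iff hd]
        intro j
        rw [show C.images (C.commutantEquiv.symm y.1) = y.1 from C.commutantEquiv.apply_symm_apply y.1]
        rcases lt_or_ge j (S + 1) with hj | hj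
        · exact y.2 ⟨j, hj⟩
        · haveI : IsEmpty {k // d k = j} := ⟨fun k => by have := hS k.1; have := k.2; omega⟩
          exact isUnit_of_subsingleton _⟩
      left_inv := fun g => by
        refine Subtype.ext ?_
        show (C.commutantEquiv.symm (C.commutantEquiv ⟨g.1, g.2.1⟩)).1 = g.1
        rw [Equiv.symm_apply_apply]
      right_inv := fun y => Subtype.ext (C.commutantEquiv.apply_symm_apply y.1) }
  let e2 : {y : Images N d // Good (π y)} ≃ LinearMap.ker π × {M : P // Good M} :=
    { toFun := fun y => (⟨y.1 - s (π y.1), by rw [LinearMap.mem_ker, map_sub, hs', sub_self]⟩, ⟨π y.1, y.2⟩)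
      invFun := fun z => ⟨z.1.1 + s z.2.1, by rw [map_add, LinearMap.mem_ker.1 z.1.2, zero_add, hs']; exact z.2.2⟩
      left_inv := fun y => Subtype.ext (sub_add_cancel _ _)
      right_inv := fun z => by
        have h : π (z.1.1 + s z.2.1) = z.2.1 := by rw [map_add, LinearMap.mem_ker.1 z.1.2, zero_add, hs']
        refine Prod.ext (Subtype.ext ?_) (Subtype.ext h)
        show z.1.1 + s z.2.1 - s (π (z.1.1 + s z.2.1)) = z.1.1
        rw [h, add_sub_cancel_right] }
  have e3 : Nat.card {M : P // Good M} = ∏ j ∈ Finset.range (S + 1), ∏ i : Fin ((Finset.univ.filter fun k => d k = j).card),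
        (Fintype.card F ^ (Finset.univ.filter fun k => d k = j).card - Fintype.card F ^ (i : ℕ)) := by
    rw [Nat.card_congr (Equiv.subtypePiEquivPi (p := fun (j : Fin (S + 1)) (M : Matrix {k // d k = (j : ℕ)} {k // d k = (j : ℕ)} F) => IsUnit M)),
      Nat.card_pi, ← Fin.prod_univ_eq_prod_range (fun j => ∏ i : Fin ((Finset.univ.filter fun k => d k = j).card),
        (Fintype.card F ^ (Finset.univ.filter fun k => d k = j).card - Fintype.card F ^ (i : ℕ)))]
    refine Finset.prod_congr rfl fun j _ => ?_
    rw [card_units_matrix, Fintype.card_subtype]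
  have hker : Nat.card (LinearMap.ker π) * Fintype.card F ^ (∑ j ∈ Finset.range (S + 1),
      (Finset.univ.filter fun k => d k = j).card ^ 2) = Fintype.card F ^ (∑ l, ∑ k, min (d k) (d l)) := by
    rw [Module.natCard_eq_pow_finrank (K := F), Nat.card_eq_fintype_card, ← pow_add, ← finrank_images C]
    congr 1
    have h := π.finrank_range_add_finrank_ker
    rw [LinearMap.range_eq_top.2 hπ, finrank_top, Module.finrank_pi_fintype] at h
    rw [← h, add_comm, ← Fin.sum_univ_eq_sum_range (fun j => (Finset.univ.filter fun k => d k = j).card ^ 2)]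
    congr 1
    refine Finset.sum_congr rfl fun j _ => ?_
    rw [Module.finrank_matrix, Module.finrank_self, mul_one, Fintype.card_subtype, sq]
  rw [Nat.card_congr (e1.trans e2), Nat.card_prod, e3, mul_right_comm, hker]

end Cfsg.Agent.Lib.JordanType
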