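import Cfsg.Agent.Lib.JordanType.Conj

/-!
Invariant forms realising a Jordan type: one block, pairs of blocks, and the gluing.
-/

set_option autoImplicit false

namespace Cfsg.Agent.Lib.JordanType

open Module

universe u v w

variable {F : Type u} [Field F]

/-- The shift of `Fin n → F`. -/
def sh (F : Type*) [Field F] (n : ℕ) : Module.End F (Fin n → F) where
  toFun x i := if (i : ℕ) = 0 then 0 else x ⟨(i : ℕ) - 1, lt_of_le_of_lt (Nat.sub_le _ _) i.2⟩
  map_add' x y := funext fun i => by by_cases h : (i : ℕ) = 0 <;> simp [h]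
  map_smul' a x := funext fun i => by by_cases h : (i : ℕ) = 0 <;> simp [h]

/-- The opposite shift. -/
def sh' (F : Type*) [Field F] (n : ℕ) : Module.End F (Fin n → F) where
  toFun x i := if h : (i : ℕ) + 1 < n then x ⟨(i : ℕ) + 1, h⟩ else 0
  map_add' x y := funext fun i => by by_cases h : (i : ℕ) + 1 < n <;> simp [h]
  map_smul' a x := funext fun i => by by_cases h : (i : ℕ) + 1 < n <;> simp [h]

theorem dot_sh {n : ℕ} (x y : Fin n → F) : (sh F n x) ⬝ᵥ y = x ⬝ᵥ (sh' F n y) := by
  rcases n with _ | n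
  · simp [dotProduct]
  rw [dotProduct, dotProduct, Fin.sum_univ_succ, Fin.sum_univ_castSucc (f := fun i => x i * sh' F (n + 1) y i)]
  simp only [sh, sh', LinearMap.coe_mk, AddHom.coe_mk, Fin.val_zero, if_true, zero_mul, Fin.val_succ,
    Nat.succ_ne_zero, if_false, Fin.val_last, lt_irrefl, dif_neg, not_false_iff, mul_zero, zero_add, add_zero]
  refine Finset.sum_congr rfl fun i _ => ?_
  rw [dif_pos (show ((Fin.castSucc i : Fin (n + 1)) : ℕ) + 1 < n + 1 by simp [i.2])]
  congr 2

theorem sh'_pow_apply (n : ℕ) : ∀ (m : ℕ) (x : Fin n → F) (i : Fin n), n ≤ i + m → ((sh' F n) ^ m) x i = 0 := by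
  intro m
  induction m with
  | zero => intro x i h; exact absurd i.2 (by omega)
  | succ m ih =>
    intro x i h
    rw [pow_succ', Module.End.mul_apply]
    show (if h : (i : ℕ) + 1 < n then _ else 0) = (0 : F)
    split
    · exact ih x _ (by simp only; omega)
    · rfl

theorem sh_pow_apply (n : ℕ) : ∀ (m : ℕ) (x : Fin n → F) (i : Fin n), (i : ℕ) < m → ((sh F n) ^ m) x i = 0 := by
  intro m
  induction m with
  | zero => intro x i h; omega
  | succ m ih =>
    intro x i h
    rw [pow_succ', Module.End.mul_apply]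
    show (if (i : ℕ) = 0 then (0 : F) else _) = 0
    split
    · rfl
    · exact ih x _ (by simp only; omega)

theorem sh_pow_self (n : ℕ) : (sh F n) ^ n = 0 :=
  LinearMap.ext fun x => funext fun i => sh_pow_apply n n x i i.2

theorem sh'_pow_self (n : ℕ) : (sh' F n) ^ n = 0 :=
  LinearMap.ext fun x => funext fun i => sh'_pow_apply n n x i (by omega)

theorem sh_ker_apply {n : ℕ} {x : Fin n → F} (h : sh F n x = 0) (i : Fin n) (hi : (i : ℕ) + 1 < n) : x i = 0 := by
  have := congrFun h ⟨(i : ℕ) + 1, hi⟩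
  simpa [sh] using this

theorem sh'_ker_apply {n : ℕ} {x : Fin n → F} (h : sh' F n x = 0) (i : Fin n) (hi : 0 < (i : ℕ)) : x i = 0 := by
  have := congrFun h ⟨(i : ℕ) - 1, by omega⟩
  simp only [sh', LinearMap.coe_mk, AddHom.coe_mk, Pi.zero_apply] at this
  rw [dif_pos (by omega)] at this
  rwa [show (⟨(i : ℕ) - 1 + 1, _⟩ : Fin n) = i from Fin.ext (by show (i : ℕ) - 1 + 1 = i; omega)] at this

/-- The shift has the coordinates of one block. -/
def shCoords (n : ℕ) : Coords (sh F n) (fun _ : Fin 1 => n) where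
  E := LinearEquiv.funCongrLeft F F
    { toFun := fun p : (_ : Fin 1) × Fin n => p.2
      invFun := fun i => ⟨0, i⟩
      left_inv := fun ⟨k, i⟩ => by rw [Subsingleton.elim k 0]
      right_inv := fun _ => rfl }
  zero' x k h := by
    show sh F n x ⟨0, h⟩ = 0
    simp [sh]
  succ' x k i h := by
    show (if i + 1 = 0 then (0 : F) else _) = _
    exact if_neg (Nat.succ_ne_zero i)

/-- A nilpotent map with at most one-dimensional kernel is a single shift. -/
theorem exists_conj_single {V : Type v} [AddCommGroup V] [Module F V] [FiniteDimensional F V] (N : Module.End F V)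
    (hN : IsNilpotent N) (hk : ∃ f : LinearMap.ker N →ₗ[F] F, Function.Injective f) {n : ℕ} (hn : finrank F V = n) :
    ∃ e : (Fin n → F) ≃ₗ[F] V, ∀ x, e (sh F n x) = N (e x) := by
  obtain ⟨f, hf⟩ := hk
  have hle : finrank F (LinearMap.ker N) ≤ 1 :=
    (LinearMap.finrank_le_finrank_of_injective hf).trans (by rw [Module.finrank_self])
  obtain ⟨t, d, hd, ⟨C⟩⟩ := exists_coords N hN
  have h1 := C.finrank_ker_pow 1
  rw [pow_one, Finset.sum_congr rfl (g := fun _ => 1) fun k _ => min_eq_right (hd k)] at h1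
  simp only [Finset.sum_const, Finset.card_univ, Fintype.card_fin, smul_eq_mul, mul_one] at h1
  have hsum := C.sum_eq_finrank
  rcases (show t = 0 ∨ t = 1 by omega) with rfl | rfl
  · rw [Finset.univ_eq_empty, Finset.sum_empty, hn] at hsum
    subst hsum
    haveI : Subsingleton V := Module.finrank_zero_iff.1 hn
    exact ⟨LinearEquiv.ofFinrankEq _ _ (by rw [hn]; simp), fun x => Subsingleton.elim _ _⟩
  · rw [Fin.sum_univ_one, hn] at hsum
    have hd' : d = fun _ => n := funext fun k => by rw [Subsingleton.elim k 0, hsum]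
    subst hd'
    exact exists_conj (shCoords n) C

theorem exists_left_inv_one_add (n : ℕ) :
    ∃ A' : Module.End F (Fin n → F), IsNilpotent (A' - 1) ∧ (∀ b, A' b + sh' F n (A' b) = b) ∧
      (∀ b, A' b = b → sh' F n b = 0) ∧ ∀ a b, (a + sh F n a) ⬝ᵥ (A' b) = a ⬝ᵥ b := by
  have hu : IsUnit (1 + sh' F n) := IsNilpotent.isUnit_one_add ⟨n, sh'_pow_self n⟩
  obtain ⟨w, hw⟩ := hu
  have h1 : ((1 : Module.End F (Fin n → F)) + sh' F n) * (w⁻¹).1 = 1 := by rw [← hw]; exact w.mul_inv
  have hc : Commute (sh' F n) (w⁻¹).1 :=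
    Commute.units_inv_right (by rw [hw]; exact (Commute.one_right _).add_right (Commute.refl _))
  have he : ∀ b, (w⁻¹).1 b + sh' F n ((w⁻¹).1 b) = b := fun b => LinearMap.congr_fun h1 b
  refine ⟨(w⁻¹).1, ?_, he, fun b hb => ?_, fun a b => ?_⟩
  · have e : (w⁻¹).1 - 1 = -(sh' F n * (w⁻¹).1) := by
      conv_lhs => rw [← h1, add_mul, one_mul, sub_add_eq_sub_sub, sub_self, zero_sub]
    rw [e]
    exact (hc.isNilpotent_mul_right ⟨n, sh'_pow_self n⟩).neg
  · have := he b
    rw [hb] at this
    exact add_left_cancel (this.trans (add_zero b).symm)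
  · rw [add_dotProduct, dot_sh, ← dotProduct_add, he]

/-- An invariant non-degenerate bilinear form for one block. -/
theorem exists_pair_form (n : ℕ) : ∃ h : LinearMap.BilinForm F (Fin n → F),
    (∀ y, (∀ x, h x y = 0) → y = 0) ∧ (∀ x, (∀ y, h x y = 0) → x = 0) ∧
      ∀ x y, h (x + sh F n x) (y + sh F n y) = h x y := by
  obtain ⟨A', hnil, -, hfix, hdot⟩ := exists_left_inv_one_add (F := F) n
  obtain ⟨e, he⟩ := exists_conj_single (A' - 1) hnil (by
    rcases Nat.eq_zero_or_pos n with rfl | hn
    · exact ⟨0, fun x y _ => Subsingleton.elim _ _⟩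
    · refine ⟨(LinearMap.proj (⟨0, hn⟩ : Fin n)).comp (LinearMap.ker (A' - 1)).subtype, ?_⟩
      rw [injective_iff_map_eq_zero]
      intro x hx
      refine Subtype.ext (funext fun i => ?_)
      rcases Nat.eq_zero_or_pos (i : ℕ) with hi | hi
      · rw [show i = ⟨0, hn⟩ from Fin.ext hi]; exact hx
      · exact sh'_ker_apply (hfix _ (sub_eq_zero.1 (LinearMap.mem_ker.1 x.2))) i hi) (Module.finrank_fin_fun F)
  let h : LinearMap.BilinForm F (Fin n → F) :=
    LinearMap.mk₂ F (fun x y => y ⬝ᵥ e x) (fun a b c => by rw [map_add, dotProduct_add])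
      (fun a x y => by rw [map_smul, dotProduct_smul]) (fun a b c => by rw [add_dotProduct])
      (fun a x y => by rw [smul_dotProduct])
  have hh : ∀ x y, h x y = y ⬝ᵥ e x := fun x y => rfl
  refine ⟨h, fun y hy => ?_, fun x hx => ?_, fun x y => ?_⟩
  · funext i
    have := hy (e.symm (Pi.single i 1))
    rw [hh, e.apply_symm_apply, dotProduct_single_one] at this
    exact this
  · refine e.injective (funext fun i => ?_)
    have := hx (Pi.single i 1)
    rw [hh, single_one_dotProduct] at this
    rw [this, map_zero]; rfl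
  · rw [hh, hh, map_add, he, LinearMap.sub_apply, Module.End.one_apply, add_sub_cancel, hdot]

/-- One block of even size preserves a non-degenerate alternating form. -/
theorem exists_alt_single (m : ℕ) : ∃ b : LinearMap.BilinForm F (Fin (2 * m) → F),
    (∀ x, b x x = 0) ∧ (∀ x, (∀ y, b x y = 0) → x = 0) ∧
      ∀ x y, b (x + sh F (2 * m) x) (y + sh F (2 * m) y) = b x y := by
  rcases Nat.eq_zero_or_pos m with rfl | hm
  · exact ⟨0, fun x => rfl, fun x _ => funext fun i => absurd i.2 (by omega), fun x y => rfl⟩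
  obtain ⟨A', hnil, -, hfix, hdot⟩ := exists_left_inv_one_add (F := F) m
  let i0 : Fin m := ⟨0, hm⟩
  let S : (Fin m → F) →ₗ[F] (Fin m → F) := (LinearMap.single F (fun _ : Fin m => F) i0).comp (LinearMap.proj i0)
  have hS : ∀ b b', (S b) ⬝ᵥ b' = b i0 * b' i0 := fun b b' => single_dotProduct _ _ _
  have hSz : ∀ (b : Fin m → F) i, i ≠ i0 → S b i = 0 := fun b i hi => Pi.single_eq_of_ne hi _
  let A : Module.End F (Fin m → F) := 1 + sh F m
  let u : Module.End F ((Fin m → F) × (Fin m → F)) := LinearMap.prod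
    (A.comp (LinearMap.fst F _ _ + S.comp (LinearMap.snd F _ _))) (A'.comp (LinearMap.snd F _ _))
  have hu : ∀ a b, u (a, b) = ((a + S b) + sh F m (a + S b), A' b) := fun a b => rfl
  let B0 : LinearMap.BilinForm F ((Fin m → F) × (Fin m → F)) := LinearMap.mk₂ F (fun x y => x.1 ⬝ᵥ y.2 - y.1 ⬝ᵥ x.2)
    (fun a b c => by simp only [Prod.fst_add, Prod.snd_add, add_dotProduct, dotProduct_add]; ring)
    (fun a x y => by simp only [Prod.smul_fst, Prod.smul_snd, smul_dotProduct, dotProduct_smul, smul_eq_mul]; ring)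
    (fun a b c => by simp only [Prod.fst_add, Prod.snd_add, add_dotProduct, dotProduct_add]; ring)
    (fun a x y => by simp only [Prod.smul_fst, Prod.smul_snd, smul_dotProduct, dotProduct_smul, smul_eq_mul]; ring)
  have hB0 : ∀ x y, B0 x y = x.1 ⬝ᵥ y.2 - y.1 ⬝ᵥ x.2 := fun x y => rfl
  have hinv : ∀ x y, B0 (u x) (u y) = B0 x y := by
    rintro ⟨a, b⟩ ⟨a', b'⟩
    simp only [hu, hB0, hdot, add_dotProduct, hS]
    ring
  set N := u - 1 with hN
  have hNapp : ∀ a b, N (a, b) = (S b + sh F m (a + S b), A' b - b) := fun a b => by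
    rw [hN, LinearMap.sub_apply, hu, Module.End.one_apply, Prod.mk_sub_mk]
    congr 1
    abel
  obtain ⟨k, hk⟩ := hnil
  have hsnd : ∀ i (x : (Fin m → F) × (Fin m → F)), ((N ^ i) x).2 = ((A' - 1) ^ i) x.2 := by
    intro i
    induction i with
    | zero => intro x; rfl
    | succ i ih =>
      intro x
      rw [pow_succ', pow_succ', Module.End.mul_apply, Module.End.mul_apply, ← ih]
      generalize (N ^ i) x = z
      obtain ⟨a, b⟩ := z
      rw [hNapp]
      rfl
  have hfst : ∀ i (a : Fin m → F), (N ^ i) (a, 0) = (((sh F m) ^ i) a, 0) := by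
    intro i
    induction i with
    | zero => intro a; rfl
    | succ i ih =>
      intro a
      rw [pow_succ', Module.End.mul_apply, ih, hNapp, map_zero, map_zero, zero_add, add_zero, sub_zero, pow_succ',
        Module.End.mul_apply]
  have hNnil : IsNilpotent N := by
    refine ⟨m + k, LinearMap.ext fun x => ?_⟩
    rw [pow_add, Module.End.mul_apply, LinearMap.zero_apply]
    have h0 : ((N ^ k) x).2 = 0 := by rw [hsnd, hk, LinearMap.zero_apply]
    rw [show (N ^ k) x = (((N ^ k) x).1, 0) from Prod.ext rfl h0, hfst, sh_pow_self]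
    rfl
  obtain ⟨e, he⟩ := exists_conj_single N hNnil ⟨((LinearMap.proj (⟨m - 1, by omega⟩ : Fin m)).comp (LinearMap.fst F _ _)).comp
      (LinearMap.ker N).subtype, by
    rw [injective_iff_map_eq_zero]
    rintro ⟨⟨a, b⟩, hx⟩ h0
    rw [LinearMap.mem_ker, hNapp] at hx
    obtain ⟨hx1, hx2⟩ := Prod.ext_iff.1 hx
    have hb' : ∀ i : Fin m, i ≠ i0 → b i = 0 := fun i hi =>
      sh'_ker_apply (hfix b (sub_eq_zero.1 hx2)) i (Nat.pos_of_ne_zero fun h => hi (Fin.ext h))
    have hb0 : b i0 = 0 := by
      have := congrFun hx1 i0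
      simpa [sh, S, i0] using this
    have hb : b = 0 := funext fun i => by
      by_cases hi : i = i0
      · rw [hi]; exact hb0
      · exact hb' i hi
    subst hb
    rw [map_zero, add_zero, zero_add] at hx1
    refine Subtype.ext (Prod.ext (funext fun i => ?_) rfl)
    show a i = 0
    by_cases hi : (i : ℕ) + 1 < m
    · exact sh_ker_apply hx1 i hi
    · rw [show i = ⟨m - 1, by omega⟩ from Fin.ext (by show (i : ℕ) = m - 1; omega)]; exact h0⟩
    (show finrank F ((Fin m → F) × (Fin m → F)) = 2 * m by rw [Module.finrank_prod, Module.finrank_fin_fun]; omega)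
  refine ⟨B0.compl₁₂ e.toLinearMap e.toLinearMap, fun x => ?_, fun x hx => ?_, fun x y => ?_⟩
  · show B0 (e x) (e x) = 0
    rw [hB0, sub_self]
  · refine e.injective ?_
    rw [map_zero]
    have h0 : ∀ v, B0 (e x) v = 0 := fun v => by
      have := hx (e.symm v)
      simpa using this
    refine Prod.ext (funext fun i => ?_) (funext fun i => ?_)
    · have := h0 (0, Pi.single i 1)
      simpa [hB0] using this
    · have := h0 (Pi.single i 1, 0)
      simpa [hB0] using this
  · show B0 (e (x + sh F _ x)) (e (y + sh F _ y)) = B0 (e x) (e y)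
    rw [map_add e, map_add e, he, he, show ∀ z, z + N z = u z from fun z => by simp [hN], show ∀ z, z + N z = u z from fun z => by simp [hN], hinv]

/-- One block of odd size preserves a non-degenerate symmetric form, away from characteristic two. -/
theorem exists_symm_single (h2 : (2 : F) ≠ 0) (m : ℕ) : ∃ b : LinearMap.BilinForm F (Fin (2 * m + 1) → F),
    (∀ x y, b x y = b y x) ∧ (∀ x, (∀ y, b x y = 0) → x = 0) ∧
      ∀ x y, b (x + sh F (2 * m + 1) x) (y + sh F (2 * m + 1) y) = b x y := by
  obtain ⟨B, halt, hnd, hinv⟩ := exists_alt_single (F := F) (m + 1)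
  have hswap : ∀ x y, B y x = -B x y := fun x y => by
    have := halt (x + y)
    simp only [map_add, LinearMap.add_apply, halt] at this
    linear_combination this
  let N := sh F (2 * (m + 1))
  let ι : (Fin (2 * m + 1) → F) →ₗ[F] (Fin (2 * (m + 1)) → F) :=
    { toFun := fun x i => if h : (i : ℕ) < 2 * m + 1 then x ⟨i, h⟩ else 0
      map_add' := fun x y => funext fun i => by
        by_cases h : (i : ℕ) < 2 * m + 1
        · simp only [Pi.add_apply, dif_pos h]
        · simp only [Pi.add_apply, dif_neg h, add_zero]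
      map_smul' := fun a x => funext fun i => by
        by_cases h : (i : ℕ) < 2 * m + 1
        · simp only [Pi.smul_apply, dif_pos h, RingHom.id_apply]
        · simp only [Pi.smul_apply, dif_neg h, RingHom.id_apply, smul_zero] }
  have hι : ∀ x i, ι x i = if h : (i : ℕ) < 2 * m + 1 then x ⟨i, h⟩ else 0 := fun x i => rfl
  let T : LinearMap.BilinForm F (Fin (2 * (m + 1)) → F) := B.compl₁₂ (1 + N) LinearMap.id - B.compl₁₂ LinearMap.id (1 + N)
  have hT : ∀ x y, T x y = B (x + N x) y - B x (y + N y) := fun x y => rfl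
  have hTfix : ∀ x y, N y = 0 → T x y = 0 := fun x y hy => by
    rw [hT]
    have := hinv x y
    rw [hy, add_zero] at this ⊢
    rw [this, sub_self]
  have hTsymm : ∀ x y, T x y = T y x := fun x y => by rw [hT, hT, hswap (y + N y) x, hswap y (x + N x)]; ring
  have hTinv : ∀ x y, T (x + N x) (y + N y) = T x y := fun x y => by rw [hT, hT, hinv, hinv]
  have hstep : ∀ x, ∃ c, N c = 0 ∧ ι (sh F (2 * m + 1) x) + c = N (ι x) := fun x => by
    refine ⟨N (ι x) - ι (sh F (2 * m + 1) x), funext fun i => ?_, by abel⟩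
    show (if (i : ℕ) = 0 then (0 : F) else _) = 0
    split
    · rfl
    rename_i hi
    have hi2 := i.2
    rw [Pi.sub_apply, sub_eq_zero, hι, dif_pos (show (i : ℕ) - 1 < 2 * m + 1 by omega)]
    show (if _ then (0 : F) else _) = (if _ then (0 : F) else _)
    split
    · rfl
    · rw [hι, dif_pos (show (i : ℕ) - 1 - 1 < 2 * m + 1 by omega)]
  refine ⟨T.compl₁₂ ι ι, fun x y => hTsymm _ _, fun x hx => ?_, fun x y => ?_⟩
  · have hall : ∀ y, T (ι x) y = 0 := fun y => by
      let y' : Fin (2 * m + 1) → F := fun i => y ⟨i, by omega⟩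
      have hz : N (y - ι y') = 0 := funext fun i => by
        show (if (i : ℕ) = 0 then (0 : F) else _) = 0
        split
        · rfl
        rename_i hi
        have hi2 := i.2
        rw [Pi.sub_apply, sub_eq_zero, hι, dif_pos (show (i : ℕ) - 1 < 2 * m + 1 by omega)]
      have h1 := hTfix (ι x) _ hz
      rw [map_sub, sub_eq_zero] at h1
      rw [h1]
      exact hx y'
    have h3 : ∀ w, B ((ι x + N (ι x)) + N (ι x + N (ι x)) - ι x) (w + N w) = 0 := fun w => by
      have h := hall w
      rw [hT, sub_eq_zero] at h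
      rw [map_sub, LinearMap.sub_apply, hinv, h, sub_self]
    obtain ⟨k, hk⟩ : IsNilpotent N := ⟨_, sh_pow_self _⟩
    have hsurj : Function.Surjective (fun w => w + N w) := fun z =>
      ⟨((IsNilpotent.isUnit_one_add ⟨k, hk⟩).unit⁻¹).1 z,
        LinearMap.congr_fun (IsNilpotent.isUnit_one_add ⟨k, hk⟩).mul_val_inv z⟩
    have h4 := hnd _ fun z => by obtain ⟨w, rfl⟩ := hsurj z; exact h3 w
    have h5 : N (N (ι x)) = -((2 : F) • N (ι x)) := by
      rw [map_add] at h4
      rw [eq_neg_iff_add_eq_zero, ← h4, two_smul]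
      abel
    have h6 : N (ι x) = 0 := by
      have hp : ∀ i : ℕ, (N ^ i) (N (ι x)) = (-(2 : F)) ^ i • N (ι x) := by
        intro i
        induction i with
        | zero => simp
        | succ i ih => rw [pow_succ', Module.End.mul_apply, ih, map_smul, h5, pow_succ, ← neg_smul, smul_smul]
      have h7 := hp k
      rw [hk, LinearMap.zero_apply] at h7
      exact (smul_eq_zero.1 h7.symm).resolve_left (pow_ne_zero _ (neg_ne_zero.2 h2))
    funext i
    have := sh_ker_apply h6 ⟨i, by omega⟩ (by simp only; omega)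
    rw [hι, dif_pos (show (i : ℕ) < 2 * m + 1 from i.2)] at this
    exact this
  · show T (ι (x + sh F _ x)) (ι (y + sh F _ y)) = T (ι x) (ι y)
    obtain ⟨c, hc, hc'⟩ := hstep x
    obtain ⟨c', hc2, hc2'⟩ := hstep y
    conv_rhs => rw [← hTinv, ← hc', ← hc2', ← add_assoc, ← add_assoc, ← map_add, ← map_add, map_add T,
      LinearMap.add_apply, map_add (T (ι (x + sh F _ x))), hTfix _ _ hc2, add_zero, hTsymm c, hTfix _ _ hc, add_zero]

end Cfsg.Agent.Lib.JordanType
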