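import Cfsg.Agent.Lib.JordanType.Glue
import Cfsg.Agent.Lib.JordanType.Parity
import Cfsg.Agent.Lib.Symplectic.Std

/-!
The Jordan types occurring in the symplectic group.
-/

set_option autoImplicit false

namespace Cfsg.Agent.Lib.JordanType

open Module

universe u

variable {F : Type u} [Field F]

theorem exists_alt_single' {n : ℕ} (hn : Even n) : ∃ b : LinearMap.BilinForm F (Fin n → F),
    (∀ x, b x x = 0) ∧ (∀ x, (∀ y, b x y = 0) → x = 0) ∧
      ∀ x y, b (x + sh F n x) (y + sh F n y) = b x y := by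
  obtain ⟨k, rfl⟩ := hn
  rw [← two_mul]
  exact exists_alt_single k

/-- A unipotent type occurs in `Sp_2m` iff odd sizes have even multiplicity. -/
theorem exists_sp_iff {m t : ℕ} (d : Fin t → ℕ) (hsum : ∑ k, d k = 2 * m) :
    (∃ e : ((k : Fin t) × Fin (d k)) ≃ (Fin m ⊕ Fin m), ∃ A : Matrix.symplecticGroup (Fin m) F,
      IsConj (Matrix.reindex e e (Cfsg.jordanTypeMatrix d F)) (A : Matrix (Fin m ⊕ Fin m) (Fin m ⊕ Fin m) F)) ↔
    ∀ j : ℕ, Odd j → Even (Finset.univ.filter (fun k : Fin t => d k = j)).card := by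
  classical
  have hsf : Symplectic.IsSympForm (Symplectic.stdForm m F) := Symplectic.isSympForm_stdForm m F
  constructor
  · rintro ⟨e, A, hA⟩ j hj
    obtain ⟨f, hf⟩ := intertwine_of_isConj hA
    refine even_count_of_alt (B := Symplectic.stdForm m F)
      ⟨hsf.nondeg, fun y hy => hsf.nondeg y fun x => by rw [hsf.swap, hy x, neg_zero]⟩
      (fun x => hsf.self x) (fun x y => ?_) ((reindexCoords d e).map f hf) hj
    rw [Matrix.toLin'_apply, Matrix.toLin'_apply, Matrix.sub_mulVec, Matrix.sub_mulVec, Matrix.one_mulVec,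
      Matrix.one_mulVec, add_sub_cancel, add_sub_cancel]
    exact Symplectic.mem_sp_iff.1 A.2 x y
  · intro h
    choose S hS1 hS2 hS3 using fun n : ℕ => (if hn : Even n then
        (let ⟨b, h1, h2, h3⟩ := exists_alt_single' (F := F) hn
         ⟨b, fun _ => h1, fun _ => h2, fun _ => h3⟩)
      else ⟨0, fun h => absurd h hn, fun h => absurd h hn, fun h => absurd h hn⟩ :
      ∃ S : LinearMap.BilinForm F (Fin n → F), (Even n → ∀ x, S x x = 0) ∧
        (Even n → ∀ x, (∀ y, S x y = 0) → x = 0) ∧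
        (Even n → ∀ x y, S (x + sh F n x) (y + sh F n y) = S x y))
    obtain ⟨B, hnd, -, hinv, halt⟩ := exists_glue d (ε := (-1 : F)) (by ring) (fun n => Even n)
      (fun j hj => h j (Nat.not_even_iff_odd.1 hj)) S (fun n hn x y => by
        have h0 := hS1 n hn (x + y)
        simp only [map_add, LinearMap.add_apply, hS1 n hn] at h0
        linear_combination h0) hS2 hS3
    have hBs : Symplectic.IsSympForm B := ⟨halt rfl hS1, hnd⟩
    have hcard : Fintype.card ((k : Fin t) × Fin (d k)) = Fintype.card (Fin m ⊕ Fin m) := by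
      rw [Fintype.card_sigma, Fintype.card_sum, Fintype.card_fin,
        Finset.sum_congr rfl (fun k _ => Fintype.card_fin (d k)), hsum, two_mul]
    obtain ⟨φ, hφ⟩ := Symplectic.exists_isometry hBs hsf
      (by rw [Module.finrank_fintype_fun_eq_card, Module.finrank_fintype_fun_eq_card, hcard])
    let N := Matrix.toLin' (Cfsg.jordanTypeMatrix d F - 1)
    let L : Module.End F (Fin m ⊕ Fin m → F) := φ.toLinearMap ∘ₗ (1 + N) ∘ₗ φ.symm.toLinearMap
    have hL : ∀ w, L (φ w) = φ (w + N w) := fun w => by simp [L]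
    have hmem : LinearMap.toMatrix' L ∈ Matrix.symplecticGroup (Fin m) F := by
      rw [Symplectic.mem_sp_iff]
      intro x y
      obtain ⟨x, rfl⟩ := φ.surjective x
      obtain ⟨y, rfl⟩ := φ.surjective y
      rw [LinearMap.toMatrix'_mulVec, LinearMap.toMatrix'_mulVec, hL, hL, hφ, hφ, hinv]
    let e := Fintype.equivOfCardEq hcard
    have hC : ∀ w, φ (N w) = Matrix.toLin' (LinearMap.toMatrix' L - 1) (φ w) := fun w => by
      rw [map_sub, Matrix.toLin'_toMatrix', Matrix.toLin'_one, LinearMap.sub_apply, hL, map_add, LinearMap.id_apply,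
        add_sub_cancel_left]
    obtain ⟨f, hf⟩ := exists_conj (reindexCoords d e) ((stdCoords d).map φ hC)
    exact ⟨e, ⟨_, hmem⟩, isConj_of_intertwine f hf⟩

end Cfsg.Agent.Lib.JordanType
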